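import Groth.Prelude.Def_SGA1t
import Mathlib.RingTheory.Trace.Basic
import Mathlib.RingTheory.Nilpotent.Basic

/-! The monomial basis of a Kummer algebra `A[T_i]/(T_i^{n_i} - a_i)`. -/

set_option autoImplicit false

universe u v

namespace Groth.Agent.EtRamLib.Kummer.Basis

open MvPolynomial SGA1t

variable {R : Type u} [CommRing R] {ι : Type v} [Fintype ι] (a : ι → R) (n : ι → ℕ) [∀ i, NeZero (n i)]

/-- reduced exponent -/
def red (m : ι →₀ ℕ) : ∀ i, Fin (n i) := fun i => ⟨m i % n i, Nat.mod_lt _ (NeZero.pos (n i))⟩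

/-- coefficient of a monomial on the reduced one -/
def coef (m : ι →₀ ℕ) : R := ∏ i, a i ^ (m i / n i)

/-- exponent vector of an index -/
noncomputable def expo (k : ∀ i, Fin (n i)) : ι →₀ ℕ := Finsupp.equivFunOnFinite.symm fun i => (k i : ℕ)

@[simp] theorem expo_apply (k : ∀ i, Fin (n i)) (i : ι) : expo n k i = (k i : ℕ) := rfl

theorem red_expo (k : ∀ i, Fin (n i)) : red n (expo n k) = k :=
  funext fun i => Fin.ext (Nat.mod_eq_of_lt (k i).2)

theorem coef_expo (k : ∀ i, Fin (n i)) : coef a n (expo n k) = 1 :=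
  Finset.prod_eq_one fun i _ => by rw [expo_apply, Nat.div_eq_of_lt (k i).2, pow_zero]

theorem mk_X_pow (i : ι) :
    (Ideal.Quotient.mk _ (X i ^ n i : MvPolynomial ι R) : kummer R a n) = algebraMap R _ (a i) :=
  Ideal.Quotient.eq.mpr (Ideal.subset_span ⟨i, rfl⟩)

omit [Fintype ι] [∀ i, NeZero (n i)] in
theorem smul_mk (c : R) (p : MvPolynomial ι R) :
    (c • (Ideal.Quotient.mk _ p) : kummer R a n) = algebraMap R _ c * Ideal.Quotient.mk _ p := by
  show Ideal.Quotient.mk _ (c • p) = Ideal.Quotient.mk _ (C c) * Ideal.Quotient.mk _ p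
  rw [smul_eq_C_mul, map_mul]

theorem mk_monomial (m : ι →₀ ℕ) :
    (Ideal.Quotient.mk _ (monomial m 1) : kummer R a n) =
      coef a n m • Ideal.Quotient.mk _ (monomial (expo n (red n m)) 1) := by
  rw [smul_mk, coef, map_prod, monomial_eq, monomial_eq, map_one, one_mul, one_mul,
    Finsupp.prod_fintype _ _ (fun _ => pow_zero _), Finsupp.prod_fintype _ _ (fun _ => pow_zero _), map_prod,
    map_prod, ← Finset.prod_mul_distrib]
  refine Finset.prod_congr rfl fun i _ => ?_
  rw [map_pow (algebraMap R _), ← mk_X_pow a n i, ← map_pow, ← map_mul, ← pow_mul, ← pow_add, expo_apply]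
  show _ = Ideal.Quotient.mk _ (X i ^ (n i * (m i / n i) + m i % n i))
  rw [Nat.div_add_mod]

variable [DecidableEq ι]

/-- normal form -/
noncomputable def nf : MvPolynomial ι R →ₗ[R] ((∀ i, Fin (n i)) → R) :=
  (MvPolynomial.basisMonomials ι R).constr R fun m => coef a n m • Pi.single (red n m) 1

theorem nf_monomial (m : ι →₀ ℕ) : nf a n (monomial m 1) = coef a n m • Pi.single (red n m) 1 := by
  rw [nf, ← show MvPolynomial.basisMonomials ι R m = monomial m 1 from congrFun (coe_basisMonomials ι R) m,
    Module.Basis.constr_basis]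

theorem nf_eq_zero {p : MvPolynomial ι R}
    (hp : p ∈ Ideal.span (Set.range fun i => (X i : MvPolynomial ι R) ^ n i - C (a i))) : nf a n p = 0 := by
  suffices h : ∀ i (q : MvPolynomial ι R), nf a n (q * ((X i : MvPolynomial ι R) ^ n i - C (a i))) = 0 by
    obtain ⟨g, rfl⟩ := (Ideal.mem_span_range_iff_exists_fun (R := MvPolynomial ι R)).mp hp
    rw [map_sum]
    exact Finset.sum_eq_zero fun i _ => h i _
  intro i q
  induction q using MvPolynomial.induction_on' with
  | monomial m c =>
    have e1 : monomial m c * X i ^ n i = c • monomial (m + Finsupp.single i (n i)) (1 : R) := by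
      rw [X_pow_eq_monomial, monomial_mul, smul_monomial, smul_eq_mul, mul_one]
    have e2 : monomial m c * C (a i) = (c * a i) • monomial m (1 : R) := by
      rw [mul_comm (monomial m c), C_mul_monomial, smul_monomial, smul_eq_mul, mul_one, mul_comm]
    have hr : red n (m + Finsupp.single i (n i)) = red n m := funext fun j => Fin.ext <| by
      rcases eq_or_ne j i with rfl | hj
      · simp [red]
      · simp [red, Finsupp.single_eq_of_ne hj]
    have hc : coef a n (m + Finsupp.single i (n i)) = a i * coef a n m := by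
      rw [coef, coef, Finset.prod_eq_mul_prod_sdiff_singleton_of_mem (Finset.mem_univ i),
        Finset.prod_eq_mul_prod_sdiff_singleton_of_mem (Finset.mem_univ i) fun j => a j ^ (m j / n j), ← mul_assoc]
      congr 1
      · rw [Finsupp.add_apply, Finsupp.single_eq_same, Nat.add_div_right _ (NeZero.pos (n i)), pow_succ']
      · refine Finset.prod_congr rfl fun j hj => ?_
        rw [Finsupp.add_apply, Finsupp.single_eq_of_ne (by simpa using hj), add_zero]
    rw [mul_sub, e1, e2, map_sub, map_smul, map_smul, nf_monomial, nf_monomial, hr, hc, smul_smul, smul_smul,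
      mul_assoc, sub_self]
  | add p q hp hq => rw [add_mul, map_add, hp, hq, add_zero]

/-- monomials of reduced exponents -/
noncomputable def lin : ((∀ i, Fin (n i)) → R) →ₗ[R] kummer R a n :=
  (Pi.basisFun R _).constr R fun k => Ideal.Quotient.mk _ (monomial (expo n k) 1)

theorem lin_single (k : ∀ i, Fin (n i)) :
    lin a n (Pi.single k 1) = Ideal.Quotient.mk _ (monomial (expo n k) 1) := by
  rw [lin, ← Pi.basisFun_apply, Module.Basis.constr_basis]

theorem lin_nf (p : MvPolynomial ι R) : lin a n (nf a n p) = Ideal.Quotient.mk _ p := by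
  have : (lin a n).comp (nf a n) = (Ideal.Quotient.mkₐ R _).toLinearMap := by
    refine (MvPolynomial.basisMonomials ι R).ext fun m => ?_
    rw [coe_basisMonomials, LinearMap.comp_apply, nf_monomial, map_smul, lin_single]
    exact (mk_monomial a n m).symm
  exact LinearMap.congr_fun this p

theorem nf_lin_bijective : Function.Bijective (lin a n) := by
  refine ⟨?_, fun x => ?_⟩
  · rw [injective_iff_map_eq_zero]
    intro c hc
    have hlin : lin a n c = Ideal.Quotient.mk _ (∑ k, c k • monomial (expo n k) (1 : R)) := by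
      rw [lin, Module.Basis.constr_apply_fintype, map_sum]
      refine Finset.sum_congr rfl fun k _ => ?_
      rw [Pi.basisFun_equivFun]
      rfl
    rw [hlin, Ideal.Quotient.eq_zero_iff_mem] at hc
    have h := nf_eq_zero a n hc
    rw [map_sum] at h
    simp only [map_smul, nf_monomial, coef_expo, red_expo, one_smul] at h
    rw [← h]
    funext k
    simp [Pi.single_apply]
  · obtain ⟨p, rfl⟩ := Ideal.Quotient.mk_surjective x
    exact ⟨nf a n p, lin_nf a n p⟩

/-- the monomial basis -/
noncomputable def kbasis : Module.Basis (∀ i, Fin (n i)) R (kummer R a n) :=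
  Module.Basis.ofEquivFun (LinearEquiv.ofBijective (lin a n) (nf_lin_bijective a n)).symm

theorem kbasis_apply (k : ∀ i, Fin (n i)) :
    kbasis a n k = Ideal.Quotient.mk _ (monomial (expo n k) 1) := by
  rw [kbasis, Module.Basis.coe_ofEquivFun, LinearEquiv.symm_symm]
  exact lin_single a n k

theorem mk_monomial_eq (m : ι →₀ ℕ) :
    (Ideal.Quotient.mk _ (monomial m 1) : kummer R a n) = coef a n m • kbasis a n (red n m) := by
  rw [kbasis_apply, mk_monomial]

end Groth.Agent.EtRamLib.Kummer.Basis
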