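import Groth.Agent.EtRamLib.Kummer.Connected
import Mathlib.RingTheory.Etale.Basic
import Mathlib.RingTheory.Smooth.Basic

/-! A Kummer algebra is etale where the variables are invertible. -/

set_option autoImplicit false

universe u v

namespace Groth.Agent.EtRamLib.Kummer.Basis

open MvPolynomial SGA1t

theorem pow_add_of_mul_self {B : Type*} [CommRing B] (t h : B) (hh : h * h = 0) :
    ∀ n : ℕ, (t + h) ^ n = t ^ n + n * t ^ (n - 1) * h
  | 0 => by simp
  | 1 => by simp
  | n + 2 => by
    rw [pow_succ, pow_add_of_mul_self t h hh (n + 1)]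
    simp only [Nat.add_sub_cancel]
    push_cast
    rw [pow_succ t (n + 1), pow_succ t n]
    linear_combination ((n : B) + 1) * t ^ n * hh

variable {R : Type u} [CommRing R] {ι : Type} [Fintype ι] [DecidableEq ι] (a : ι → R) (n : ι → ℕ)
  [∀ i, NeZero (n i)] (hn : ∀ i, IsUnit ((n i : ℕ) : R))

include hn in
theorem etale_away : Algebra.Etale R (Localization.Away (tt a n)) := by
  let L := Localization.Away (tt a n)
  have hfp : Algebra.FinitePresentation R (kummer R a n) :=
    Algebra.FinitePresentation.quotient (Submodule.fg_span (Set.finite_range _))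
  haveI : Algebra.FinitePresentation R L :=
    Algebra.FinitePresentation.trans R (kummer R a n) L
  suffices h : Algebra.FormallyEtale R L from ⟨h, inferInstance⟩
  rw [Algebra.FormallyEtale.iff_comp_bijective]
  intro B _ _ I hI
  have hsq : ∀ x ∈ I, ∀ y ∈ I, x * y = 0 := fun x hx y hy => by
    have : x * y ∈ I ^ 2 := by rw [pow_two]; exact Ideal.mul_mem_mul hx hy
    rwa [hI, Ideal.mem_bot] at this
  have hTu : ∀ (C : Type u) [CommRing C] [Algebra R C] (g : L →ₐ[R] C) (i : ι),
      IsUnit (g (algebraMap _ L (T a n i))) := fun C _ _ g i =>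
    (isUnit_of_dvd_unit (map_dvd (algebraMap (kummer R a n) L) (Finset.dvd_prod_of_mem _ (Finset.mem_univ i)))
      (IsLocalization.Away.algebraMap_isUnit (tt a n))).map g
  have hTn : ∀ (C : Type u) [CommRing C] [Algebra R C] (g : L →ₐ[R] C) (i : ι),
      g (algebraMap _ L (T a n i)) ^ n i = algebraMap R C (a i) := fun C _ _ g i => by
    rw [← map_pow, ← map_pow, T_pow, ← IsScalarTower.algebraMap_apply, g.commutes]
  constructor
  · intro g g' hgg
    apply AlgHom.coe_ringHom_injective
    refine IsLocalization.ringHom_ext (Submonoid.powers (tt a n)) (Ideal.Quotient.ringHom_ext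
      (MvPolynomial.ringHom_ext (fun r => ?_) (fun i => ?_)))
    · show g (algebraMap (kummer R a n) L (algebraMap R _ r)) = g' (algebraMap (kummer R a n) L (algebraMap R _ r))
      rw [← IsScalarTower.algebraMap_apply, g.commutes, g'.commutes]
    · show g (algebraMap _ L (T a n i)) = g' (algebraMap _ L (T a n i))
      have hd : g' (algebraMap _ L (T a n i)) - g (algebraMap _ L (T a n i)) ∈ I :=
        Ideal.Quotient.eq.mp (congr($hgg (algebraMap _ L (T a n i)))).symm
      generalize hd0 : g' (algebraMap _ L (T a n i)) - g (algebraMap _ L (T a n i)) = d at hd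
      have h1 := pow_add_of_mul_self (g (algebraMap _ L (T a n i))) d (hsq d hd d hd) (n i)
      rw [← hd0, add_sub_cancel, hTn, hTn, hd0, left_eq_add] at h1
      have hu : IsUnit (((n i : ℕ) : B) * g (algebraMap _ L (T a n i)) ^ (n i - 1)) :=
        IsUnit.mul (by simpa using (hn i).map (algebraMap R B)) ((hTu B g i).pow _)
      rw [hu.mul_right_eq_zero.mp h1] at hd0
      exact (sub_eq_zero.mp hd0).symm
  · intro g
    have hex : ∀ i, ∃ t : B, IsUnit t ∧ t ^ n i = algebraMap R B (a i) ∧
        Ideal.Quotient.mk I t = g (algebraMap _ L (T a n i)) := by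
      intro i
      obtain ⟨t, ht⟩ := Ideal.Quotient.mk_surjective (g (algebraMap _ L (T a n i)))
      have htu : IsUnit t := by
        obtain ⟨s, hs⟩ := Ideal.Quotient.mk_surjective (↑((hTu _ g i).unit⁻¹) : B ⧸ I)
        have h1 : t * s - 1 ∈ I := by
          rw [← Ideal.Quotient.eq, map_mul, map_one, ht, hs]
          exact IsUnit.mul_val_inv _
        have h2 := hsq _ h1 _ h1
        exact IsUnit.of_mul_eq_one (s * (2 - t * s)) (by linear_combination -h2)
      let u : Bˣ := ((show IsUnit ((n i : ℕ) : B) by simpa using (hn i).map (algebraMap R B)).mul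
        (htu.pow (n i - 1))).unit
      let h := ((u⁻¹ : Bˣ) : B) * (algebraMap R B (a i) - t ^ n i)
      have hh : h ∈ I := Ideal.mul_mem_left _ _ (Ideal.Quotient.eq.mp (by
        rw [map_pow, ht, hTn, Ideal.Quotient.mk_algebraMap]))
      refine ⟨t + h, ?_, ?_, ?_⟩
      · exact IsNilpotent.isUnit_add_left_of_commute ⟨2, by rw [pow_two]; exact hsq h hh h hh⟩ htu (Commute.all _ _)
      · have hu : ((n i : ℕ) : B) * t ^ (n i - 1) * ((u⁻¹ : Bˣ) : B) = 1 := u.mul_inv
        rw [pow_add_of_mul_self t h (hsq h hh h hh), ← mul_assoc, hu, one_mul, add_sub_cancel]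
      · rw [map_add, Ideal.Quotient.eq_zero_iff_mem.mpr hh, add_zero, ht]
    choose t htu htn htg using hex
    let ψ : kummer R a n →ₐ[R] B := Ideal.Quotient.liftₐ _ (MvPolynomial.aeval t) (by
      intro p hp
      refine (Ideal.span_le (I := RingHom.ker (MvPolynomial.aeval t))).mpr ?_ hp
      rintro _ ⟨i, rfl⟩
      simp [htn i])
    have hψT : ∀ i, ψ (T a n i) = t i := fun i => (aeval_X t i)
    have hψu : IsUnit (ψ (tt a n)) := by
      rw [map_prod]
      exact IsUnit.prod_iff.mpr fun i _ => (hψT i).symm ▸ htu i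
    refine ⟨IsLocalization.liftAlgHom (M := Submonoid.powers (tt a n)) (f := ψ)
      (fun y => by obtain ⟨m, hm⟩ := y.2; rw [← hm, map_pow]; exact hψu.pow m), ?_⟩
    apply AlgHom.coe_ringHom_injective
    refine IsLocalization.ringHom_ext (Submonoid.powers (tt a n)) (Ideal.Quotient.ringHom_ext
      (MvPolynomial.ringHom_ext (fun r => ?_) (fun i => ?_)))
    · show Ideal.Quotient.mk I (IsLocalization.lift _ (algebraMap (kummer R a n) L (algebraMap R _ r))) =
        g (algebraMap (kummer R a n) L (algebraMap R _ r))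
      rw [IsLocalization.lift_eq, ← IsScalarTower.algebraMap_apply, g.commutes]
      exact congrArg (Ideal.Quotient.mk I) (ψ.commutes r)
    · show Ideal.Quotient.mk I (IsLocalization.lift _ (algebraMap (kummer R a n) L (T a n i))) =
        g (algebraMap (kummer R a n) L (T a n i))
      rw [IsLocalization.lift_eq, ← htg i]
      exact congrArg (Ideal.Quotient.mk I) (hψT i)

end Groth.Agent.EtRamLib.Kummer.Basis
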