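import Groth.Agent.Hens.Lifting
import Mathlib.RingTheory.TotallySplit
import Mathlib.RingTheory.LocalRing.Module
import Mathlib.RingTheory.Finiteness.Nakayama
import Mathlib.FieldTheory.IsSepClosed

/-! Finite etale algebras over strictly henselian local rings split. -/

set_option autoImplicit false

universe u

open IsLocalRing
open scoped TensorProduct

namespace Groth.Agent.EtRamLib.Kummer

theorem exists_split (R C : Type u) [CommRing R] [HenselianLocalRing R] [IsSepClosed (ResidueField R)]
    [CommRing C] [Algebra R C] [Module.Finite R C] [Algebra.Etale R C] :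
    ∃ d : ℕ, Nonempty (C ≃ₐ[R] (Fin d → R)) := by
  let k := ResidueField R
  haveI : IsSepClosed k := ‹_›
  obtain ⟨d, ⟨f⟩⟩ := Algebra.IsFiniteSplit.nonempty_algEquiv_fun k (k ⊗[R] C)
  let τ : Fin d → (C →ₐ[R] ResidueField R) := fun i =>
    ((Pi.evalAlgHom R (fun _ : Fin d => k) i).comp (f.toAlgHom.restrictScalars R)).comp
      Algebra.TensorProduct.includeRight
  choose θ hθ using fun i => (Hens.existsUnique_algHom (T := R) (τ i)).exists
  let Θ : C →ₐ[R] (Fin d → R) := AlgHom.pi θ
  have hfree : Module.Free R C := Module.free_of_flat_of_isLocalRing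
  have hres : Function.Surjective (algebraMap R k) := residue_surjective
  have hsurj : Function.Surjective Θ := by
    have key : ⊤ ≤ LinearMap.range Θ.toLinearMap ⊔ maximalIdeal R • (⊤ : Submodule R (Fin d → R)) := by
      intro y _
      obtain ⟨c, hc⟩ : ∃ c : C, (1 : k) ⊗ₜ[R] c = f.symm (fun i => residue R (y i)) := by
        generalize f.symm (fun i => residue R (y i)) = z
        induction z using TensorProduct.induction_on with
        | zero => exact ⟨0, TensorProduct.tmul_zero _ _⟩
        | add a b ha hb =>
          obtain ⟨c, rfl⟩ := ha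
          obtain ⟨c', rfl⟩ := hb
          exact ⟨c + c', TensorProduct.tmul_add _ _ _⟩
        | tmul a c =>
          obtain ⟨r, rfl⟩ := hres a
          exact ⟨r • c, by rw [Algebra.algebraMap_eq_smul_one, TensorProduct.smul_tmul]⟩
      refine Submodule.mem_sup.mpr ⟨Θ c, ⟨c, rfl⟩, y - Θ c, ?_, add_sub_cancel _ _⟩
      have hmem : ∀ i, (y - Θ c) i ∈ maximalIdeal R := fun i => by
        rw [← residue_eq_zero_iff, Pi.sub_apply, map_sub, sub_eq_zero]
        refine Eq.trans ?_ (hθ i c).symm
        exact ((congrFun (f.apply_symm_apply (fun i => residue R (y i))) i).symm.trans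
          (congrArg (fun z => f z i) hc.symm))
      rw [← Finset.univ_sum_single (y - Θ c)]
      refine sum_mem fun i _ => ?_
      have he : Pi.single i ((y - Θ c) i) = ((y - Θ c) i) • (Pi.single i (1 : R) : Fin d → R) := by
        funext j; rcases eq_or_ne j i with rfl | hj <;> simp [*]
      rw [he]
      exact Submodule.smul_mem_smul (hmem i) Submodule.mem_top
    have h1 := Submodule.le_of_le_smul_of_le_jacobson_bot Module.Finite.fg_top
      (IsLocalRing.maximalIdeal_le_jacobson ⊥) key
    exact LinearMap.range_eq_top.mp (top_unique h1)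
  have hdim : Module.finrank R C = d := by
    have h1 := f.toLinearEquiv.finrank_eq
    rwa [Module.finrank_baseChange, Module.finrank_fintype_fun_eq_card, Fintype.card_fin] at h1
  let e : (Fin d → R) ≃ₗ[R] C := LinearEquiv.ofFinrankEq _ _ (by simp [hdim])
  have hinj : Function.Injective Θ := by
    have h1 := OrzechProperty.injective_of_surjective_endomorphism (Θ.toLinearMap.comp e.toLinearMap)
      (hsurj.comp e.surjective)
    exact Function.Injective.of_comp_right (f := Θ) (g := e) h1 e.surjective
  exact ⟨d, ⟨AlgEquiv.ofBijective Θ ⟨hinj, hsurj⟩⟩⟩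

end Groth.Agent.EtRamLib.Kummer
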