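import Groth.Prelude.Def_SGA1t
import Mathlib.RingTheory.Etale.Basic
import Mathlib.RingTheory.RingHom.Etale
import Mathlib.RingTheory.Etale.Weakly
import Groth.Agent.WEtale.Local
import Mathlib.AlgebraicGeometry.Morphisms.Etale

/-! Algebraic charts of relative normal crossings divisors. -/

set_option autoImplicit false

universe u

open CategoryTheory CategoryTheory.Limits AlgebraicGeometry

namespace Groth.Agent.EtRamLib.Kummer

theorem formallyEtale_of_bijective {R A : Type u} [CommRing R] [CommRing A] (φ : R →+* A)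
    (hφ : Function.Bijective φ) : φ.FormallyEtale := by
  letI := φ.toAlgebra
  exact RingHom.formallyEtale_algebraMap.mpr
    (Algebra.FormallyEtale.of_equiv (AlgEquiv.ofBijective (Algebra.ofId R A) hφ))

theorem exists_chart' {X S : Scheme.{u}} (f : X ⟶ S) {r : ℕ} (φ : Fin r → Γ(X, ⊤))
    (hD : SGA1t.IsRelSNC f φ) (x : X) (hx : Nonempty (SGA1t.vanishingAt φ x)) :
    ∃ (V : S.Opens) (_ : IsAffineOpen V) (hxV : f x ∈ V) (d : ℕ) (c : ULift.{u} (Fin d) → X.presheaf.stalk x)
      (e : SGA1t.vanishingAt φ x → ULift.{u} (Fin d)), Function.Injective e ∧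
      (∀ i, c (e i) = X.presheaf.germ ⊤ x trivial (φ i.1)) ∧
      (MvPolynomial.eval₂Hom (S.presheaf.germ V (f x) hxV ≫ f.stalkMap x).hom c).FormallyEtale ∧
      @Algebra.WeaklyEtale (MvPolynomial (ULift.{u} (Fin d)) Γ(S, V)) (X.presheaf.stalk x) _ _
        (MvPolynomial.eval₂Hom (S.presheaf.germ V (f x) hxV ≫ f.stalkMap x).hom c).toAlgebra := by
  obtain ⟨W, hxW, d, v, e, he, het, hv⟩ := hD x hx
  obtain ⟨V, hV, hxV, -⟩ := exists_isAffineOpen_mem_and_subset (TopologicalSpace.Opens.mem_top (f x))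
  obtain ⟨U, hU, hxU, hUle⟩ := exists_isAffineOpen_mem_and_subset (U := W ⊓ f ⁻¹ᵁ V) (x := x) ⟨hxW, hxV⟩
  have hUW : U ≤ W := fun a ha => (hUle ha).1
  have hUV : U ≤ f ⁻¹ᵁ V := fun a ha => (hUle ha).2
  haveI : IsAffine U.toScheme := hU
  haveI : IsAffine V.toScheme := hV
  let w : ULift.{u} (Fin d) → Γ(U.toScheme, ⊤) := (X.homOfLE hUW).appTop ∘ v
  haveI het1 : Etale (AffineSpace.homOfVector (U.ι ≫ f) w) := by
    have h0 : Etale (X.homOfLE hUW ≫ AffineSpace.homOfVector (W.ι ≫ f) v) :=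
      MorphismProperty.comp_mem _ _ _ inferInstance het
    rw [AffineSpace.comp_homOfVector] at h0
    simpa only [X.homOfLE_ι_assoc] using h0
  let h' := AffineSpace.homOfVector (f.resLE V U hUV) w
  have hcomp : h' ≫ AffineSpace.map (ULift.{u} (Fin d)) V.ι = AffineSpace.homOfVector (U.ι ≫ f) w := by
    apply AffineSpace.hom_ext
    · rw [Category.assoc, AffineSpace.map_over, AffineSpace.homOfVector_over_assoc, AffineSpace.homOfVector_over,
        Scheme.Hom.resLE_comp_ι]
    · intro i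
      rw [Scheme.Hom.comp_appTop, ConcreteCategory.comp_apply, AffineSpace.map_appTop_coord,
        AffineSpace.homOfVector_appTop_coord, AffineSpace.homOfVector_appTop_coord]
  haveI : IsOpenImmersion (AffineSpace.map (ULift.{u} (Fin d)) V.ι) :=
    MorphismProperty.of_isPullback (AffineSpace.isPullback_map V.ι).flip inferInstance
  haveI : Etale (h' ≫ AffineSpace.map (ULift.{u} (Fin d)) V.ι) := hcomp ▸ het1
  haveI : Etale h' := Etale.of_comp _ (AffineSpace.map (ULift.{u} (Fin d)) V.ι)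
  let q : U.toScheme ⟶ Spec (CommRingCat.of (MvPolynomial (ULift.{u} (Fin d)) Γ(V.toScheme, ⊤))) :=
    h' ≫ (AffineSpace.isoOfIsAffine (ULift.{u} (Fin d)) V.toScheme).hom
  have hq : q.appTop.hom.Etale := (HasRingHomProperty.iff_of_isAffine (P := @Etale)).mp (inferInstanceAs (Etale q))
  let ψ := ((Scheme.ΓSpecIso (CommRingCat.of (MvPolynomial (ULift.{u} (Fin d)) Γ(V.toScheme, ⊤)))).inv ≫ q.appTop).hom
  have h1 : ψ.Etale := RingHom.Etale.respectsIso.2 q.appTop.hom
    (Scheme.ΓSpecIso (CommRingCat.of (MvPolynomial (ULift.{u} (Fin d)) Γ(V.toScheme, ⊤)))).symm.commRingCatIsoToRingEquiv hq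
  have hψ : ψ.FormallyEtale := by
    letI := ψ.toAlgebra
    haveI : Algebra.Etale _ _ := RingHom.etale_algebraMap.mp h1
    exact RingHom.formallyEtale_algebraMap.mpr inferInstance
  have hψe : ψ = MvPolynomial.eval₂Hom (V.topIso.hom ≫ f.appLE V U hUV ≫ U.topIso.inv).hom w := by
    have e1 : ψ = (CommRingCat.ofHom (MvPolynomial.eval₂Hom ((AffineSpace (ULift.{u} (Fin d)) V.toScheme ↘ V.toScheme).appTop).hom
        (AffineSpace.coord V.toScheme)) ≫ h'.appTop).hom := by
      simp only [ψ, q, Scheme.Hom.comp_appTop, AffineSpace.isoOfIsAffine_hom_appTop, Category.assoc,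
        Iso.inv_hom_id_assoc]
    rw [e1]
    refine MvPolynomial.ringHom_ext (fun a => ?_) (fun i => ?_)
    · simp only [CommRingCat.hom_comp, CommRingCat.hom_ofHom, RingHom.comp_apply, MvPolynomial.eval₂Hom_C]
      have := congr($(Scheme.Hom.comp_appTop h' (AffineSpace (ULift.{u} (Fin d)) V.toScheme ↘ V.toScheme)) a)
      rw [AffineSpace.homOfVector_over] at this
      refine this.symm.trans ?_
      exact congr($(Scheme.Hom.resLE_app_top f hUV) a)
    · simp only [CommRingCat.hom_comp, CommRingCat.hom_ofHom, RingHom.comp_apply, MvPolynomial.eval₂Hom_X']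
      exact AffineSpace.homOfVector_appTop_coord _ _ _
  let g : Γ(U.toScheme, ⊤) →+* X.presheaf.stalk x := (U.topIso.hom ≫ X.presheaf.germ U x hxU).hom
  have hg : g.FormallyEtale := by
    letI := g.toAlgebra
    letI := TopCat.Presheaf.algebra_section_stalk X.presheaf (⟨x, hxU⟩ : U)
    haveI := hU.isLocalization_stalk ⟨x, hxU⟩
    letI : Algebra Γ(U.toScheme, ⊤) Γ(X, U) := U.topIso.hom.hom.toAlgebra
    haveI : IsScalarTower Γ(U.toScheme, ⊤) Γ(X, U) (X.presheaf.stalk x) := IsScalarTower.of_algebraMap_eq fun _ => rfl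
    haveI : Algebra.FormallyEtale Γ(U.toScheme, ⊤) Γ(X, U) :=
      RingHom.formallyEtale_algebraMap.mp (formallyEtale_of_bijective _
        U.topIso.commRingCatIsoToRingEquiv.bijective)
    haveI : Algebra.FormallyEtale Γ(X, U) (X.presheaf.stalk x) :=
      Algebra.FormallyEtale.of_isLocalization (hU.primeIdealOf ⟨x, hxU⟩).asIdeal.primeCompl
    exact RingHom.formallyEtale_algebraMap.mpr (Algebra.FormallyEtale.comp Γ(U.toScheme, ⊤) Γ(X, U) (X.presheaf.stalk x))
  let eV := V.topIso.symm.commRingCatIsoToRingEquiv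
  let eP := MvPolynomial.mapEquiv (ULift.{u} (Fin d)) eV
  refine ⟨V, hV, hxV, d, fun i => g (w i), fun i => ULift.up (e i), ?_, fun i => ?_, ?_⟩
  · exact fun a b hab => he (congrArg ULift.down hab)
  · show g ((X.homOfLE hUW).appTop (v (ULift.up (e i)))) = _
    rw [hv, Scheme.homOfLE_appTop]
    show ((X.presheaf.map _ ≫ W.topIso.inv ≫ (X.presheaf.map _) ≫ U.topIso.hom ≫ X.presheaf.germ U x hxU)) (φ i.1) = _
    suffices hm : X.presheaf.map (homOfLE le_top).op ≫ W.topIso.inv ≫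
        X.presheaf.map (homOfLE (X.ι_image_homOfLE_le_ι_image hUW ⊤)).op ≫ U.topIso.hom ≫
        X.presheaf.germ U x hxU = X.presheaf.germ ⊤ x trivial from congr($hm (φ i.1))
    simp only [Scheme.Opens.topIso, Functor.mapIso_inv, Functor.mapIso_hom, TopCat.Presheaf.germ_res]
    erw [TopCat.Presheaf.germ_res, TopCat.Presheaf.germ_res, TopCat.Presheaf.germ_res]
    exact TopCat.Presheaf.germ_res _ _ _ _
  · have key : MvPolynomial.eval₂Hom (S.presheaf.germ V (f x) hxV ≫ f.stalkMap x).hom (fun i => g (w i)) =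
        (g.comp ψ).comp eP.toRingHom := by
      rw [hψe]
      refine MvPolynomial.ringHom_ext (fun a => ?_) (fun i => ?_)
      · simp only [MvPolynomial.eval₂Hom_C, RingHom.comp_apply, RingEquiv.toRingHom_eq_coe, RingHom.coe_coe, eP,
          MvPolynomial.mapEquiv_apply, MvPolynomial.map_C]
        show (S.presheaf.germ V (f x) hxV ≫ f.stalkMap x) a =
          (V.topIso.inv ≫ V.topIso.hom ≫ f.appLE V U hUV ≫ U.topIso.inv ≫ U.topIso.hom ≫ X.presheaf.germ U x hxU) a
        suffices hm : S.presheaf.germ V (f x) hxV ≫ f.stalkMap x =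
            V.topIso.inv ≫ V.topIso.hom ≫ f.appLE V U hUV ≫ U.topIso.inv ≫ U.topIso.hom ≫
              X.presheaf.germ U x hxU from congr($hm a)
        rw [Iso.inv_hom_id_assoc, Iso.inv_hom_id_assoc, Scheme.Hom.germ_stalkMap, Scheme.Hom.appLE, Category.assoc,
          TopCat.Presheaf.germ_res]
      · simp [eP]
    rw [key]
    refine ⟨RingHom.FormallyEtale.comp (formallyEtale_of_bijective _ eP.bijective) (RingHom.FormallyEtale.comp hψ hg), ?_⟩
    let ρ : MvPolynomial (ULift.{u} (Fin d)) Γ(S, V) →+* Γ(X, U) :=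
      U.topIso.hom.hom.comp (ψ.comp eP.toRingHom)
    have hρ : ρ.Etale :=
      RingHom.Etale.respectsIso.1 (ψ.comp eP.toRingHom) U.topIso.commRingCatIsoToRingEquiv
        (RingHom.Etale.respectsIso.2 ψ eP h1)
    letI := ρ.toAlgebra
    haveI : Algebra.Etale (MvPolynomial (ULift.{u} (Fin d)) Γ(S, V)) Γ(X, U) := RingHom.etale_algebraMap.mp hρ
    letI := TopCat.Presheaf.algebra_section_stalk X.presheaf (⟨x, hxU⟩ : U)
    haveI := hU.isLocalization_stalk ⟨x, hxU⟩
    haveI : Algebra.WeaklyEtale Γ(X, U) (X.presheaf.stalk x) :=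
      Groth.Agent.WEtale.Local.of_isLocalization (hU.primeIdealOf ⟨x, hxU⟩).asIdeal.primeCompl
    letI := ((g.comp ψ).comp eP.toRingHom).toAlgebra
    haveI : IsScalarTower (MvPolynomial (ULift.{u} (Fin d)) Γ(S, V)) Γ(X, U) (X.presheaf.stalk x) :=
      IsScalarTower.of_algebraMap_eq fun _ => rfl
    exact Algebra.WeaklyEtale.trans _ Γ(X, U) _

theorem exists_chart {X S : Scheme.{u}} (f : X ⟶ S) {r : ℕ} (φ : Fin r → Γ(X, ⊤))
    (hD : SGA1t.IsRelSNC f φ) (x : X) (hx : Nonempty (SGA1t.vanishingAt φ x)) :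
    ∃ (V : S.Opens) (_ : IsAffineOpen V) (hxV : f x ∈ V) (d : ℕ) (c : ULift.{u} (Fin d) → X.presheaf.stalk x)
      (e : SGA1t.vanishingAt φ x → ULift.{u} (Fin d)), Function.Injective e ∧
      (∀ i, c (e i) = X.presheaf.germ ⊤ x trivial (φ i.1)) ∧
      (MvPolynomial.eval₂Hom (S.presheaf.germ V (f x) hxV ≫ f.stalkMap x).hom c).FormallyEtale :=
  let ⟨V, hV, hxV, d, c, e, he, hce, het, _⟩ := exists_chart' f φ hD x hx
  ⟨V, hV, hxV, d, c, e, he, hce, het⟩

end Groth.Agent.EtRamLib.Kummer
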