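import Groth.Agent.EtRamLib.Kummer.Connected
import Groth.Agent.EtRamLib.Kummer.SNCChart
import Groth.Agent.S7179
import Mathlib.RingTheory.TensorProduct.Quotient

/-! Reduced divisors of rings weakly étale over polynomial rings, and connectedness of their Kummer covers. -/

set_option autoImplicit false

universe u v

namespace Groth.Agent.EtRamLib.Kummer.Basis

open MvPolynomial SGA1t TensorProduct

theorem isReduced_quotient_map {P R : Type u} [CommRing P] [CommRing R] [Algebra P R] [Algebra.WeaklyEtale P R]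
    (I : Ideal P) [IsReduced (P ⧸ I)] : IsReduced (R ⧸ I.map (algebraMap P R)) := by
  haveI : Algebra.WeaklyEtale (P ⧸ I) ((P ⧸ I) ⊗[P] R) := inferInstance
  haveI : IsReduced ((P ⧸ I) ⊗[P] R) := Groth.Agent.S7179.isReduced_of_weaklyEtale (P ⧸ I) _
  let e : (R ⧸ I.map (algebraMap P R)) ≃ₐ[P] ((P ⧸ I) ⊗[P] R) :=
    ((Algebra.TensorProduct.quotIdealMapEquivTensorQuot R I).restrictScalars P).trans
      (Algebra.TensorProduct.comm P R (P ⧸ I))
  exact isReduced_of_injective e e.injective

theorem mem_map_of_mul_mem {P R : Type u} [CommRing P] [CommRing R] [Algebra P R] [Module.Flat P R]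
    (I : Ideal P) (p : P) (hp : ∀ x, p * x ∈ I → x ∈ I) (y : R)
    (hy : algebraMap P R p * y ∈ I.map (algebraMap P R)) : y ∈ I.map (algebraMap P R) := by
  let m : (P ⧸ I) →ₗ[P] (P ⧸ I) := LinearMap.lsmul P (P ⧸ I) p
  have hm : Function.Injective m := by
    rw [injective_iff_map_eq_zero]
    intro q hq
    obtain ⟨q, rfl⟩ := Ideal.Quotient.mk_surjective q
    exact Ideal.Quotient.eq_zero_iff_mem.mpr (hp q (Ideal.Quotient.eq_zero_iff_mem.mp hq))
  have hinj := Module.Flat.lTensor_preserves_injective_linearMap (M := R) m hm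
  let e := Algebra.TensorProduct.quotIdealMapEquivTensorQuot R I
  have key : ∀ z : R ⊗[P] (P ⧸ I), m.lTensor R z = p • z := fun z => by
    induction z using TensorProduct.induction_on with
    | zero => simp
    | tmul a b => exact (TensorProduct.tmul_smul p a b)
    | add a b ha hb => rw [map_add, ha, hb, smul_add]
  rw [← Ideal.Quotient.eq_zero_iff_mem] at hy ⊢
  apply e.injective
  apply hinj
  rw [key, map_zero, key, smul_zero, ← algebraMap_smul R p, ← map_smul, Algebra.smul_def]
  exact (congrArg e hy).trans (map_zero e)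

variable {B : Type u} [CommRing B] {σ : Type u} [DecidableEq σ]

/-- `X i ↦ 0` -/
noncomputable def killVar (i : σ) : MvPolynomial σ B →ₐ[B] MvPolynomial σ B :=
  aeval fun j => if j = i then 0 else X j

theorem killVar_X_self (i : σ) : killVar (B := B) i (X i) = 0 := by simp [killVar]

theorem killVar_X_of_ne {i j : σ} (h : j ≠ i) : killVar (B := B) i (X j) = X j := by simp [killVar, h]

theorem sub_killVar_mem (i : σ) (p : MvPolynomial σ B) :
    p - killVar i p ∈ Ideal.span {(X i : MvPolynomial σ B)} := by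
  induction p using MvPolynomial.induction_on with
  | C c => simp [killVar]
  | add p q hp hq => rw [map_add, add_sub_add_comm]; exact add_mem hp hq
  | mul_X p j hp =>
    rw [map_mul]
    rcases eq_or_ne j i with rfl | h
    · rw [killVar_X_self, mul_zero, sub_zero]
      exact Ideal.mul_mem_left _ _ (Ideal.subset_span rfl)
    · rw [killVar_X_of_ne h, ← sub_mul]
      exact Ideal.mul_mem_right _ _ hp

theorem isNilpotent_killVar {i : σ} {p : MvPolynomial σ B}
    (hp : p ∈ Ideal.span {X i} ⊔ nilradical (MvPolynomial σ B)) : IsNilpotent (killVar i p) := by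
  obtain ⟨a, ha, b, hb, rfl⟩ := Submodule.mem_sup.mp hp
  obtain ⟨c, rfl⟩ := Ideal.mem_span_singleton.mp ha
  rw [map_add, map_mul, killVar_X_self, zero_mul, zero_add]
  exact (show IsNilpotent b from hb).map _

theorem mem_divisor_of_isNilpotent {i : σ} {p : MvPolynomial σ B} (hp : IsNilpotent (killVar i p)) :
    p ∈ Ideal.span {X i} ⊔ nilradical (MvPolynomial σ B) := by
  rw [← sub_add_cancel p (killVar i p)]
  exact add_mem (Ideal.mem_sup_left (sub_killVar_mem i p)) (Ideal.mem_sup_right hp)

theorem isNilpotent_of_X_mul {i : σ} {p : MvPolynomial σ B} (hp : IsNilpotent (X i * p)) : IsNilpotent p := by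
  obtain ⟨k, hk⟩ := hp
  exact ⟨k, (isRegular_X_pow k).left (by show X i ^ k * p ^ k = X i ^ k * 0; rw [← mul_pow, hk, mul_zero])⟩

/-- Over a ring weakly étale over a polynomial ring, reduce modulo the nilpotents of the latter. -/
theorem exists_reduction {R : Type u} [CommRing R] [Algebra (MvPolynomial σ B) R]
    [Algebra.WeaklyEtale (MvPolynomial σ B) R] {ι : Type v} (e : ι → σ) (he : Function.Injective e) :
    ∃ f : R →+* R ⧸ (nilradical (MvPolynomial σ B)).map (algebraMap (MvPolynomial σ B) R),
      Function.Surjective f ∧ RingHom.ker f ≤ nilradical R ∧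
      IsReduced (R ⧸ (nilradical (MvPolynomial σ B)).map (algebraMap (MvPolynomial σ B) R)) ∧
      (∀ i x, f (algebraMap (MvPolynomial σ B) R (X (e i))) * x = 0 → x = 0) ∧
      (∀ i, IsReduced ((R ⧸ (nilradical (MvPolynomial σ B)).map (algebraMap (MvPolynomial σ B) R)) ⧸
        Ideal.span {f (algebraMap (MvPolynomial σ B) R (X (e i)))})) ∧
      (∀ i j, j ≠ i → ∀ x, f (algebraMap (MvPolynomial σ B) R (X (e j))) * x ∈
          Ideal.span {f (algebraMap (MvPolynomial σ B) R (X (e i)))} →
        x ∈ Ideal.span {f (algebraMap (MvPolynomial σ B) R (X (e i)))}) := by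
  let J := nilradical (MvPolynomial σ B)
  let φ := algebraMap (MvPolynomial σ B) R
  let f := Ideal.Quotient.mk (J.map φ)
  haveI : IsReduced (MvPolynomial σ B ⧸ J) :=
    (Ideal.isRadical_iff_quotient_reduced _).mp (Ideal.radical_isRadical _)
  have hsup : ∀ i, Ideal.comap f (Ideal.span {f (φ (X i))}) = (Ideal.span {X i} ⊔ J).map φ := fun i => by
    rw [← Set.image_singleton, ← Ideal.map_span, Ideal.comap_map_of_surjective f Ideal.Quotient.mk_surjective,
      Ideal.map_sup, Ideal.map_span, Set.image_singleton]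
    congr 1
    exact Ideal.mk_ker
  refine ⟨f, Ideal.Quotient.mk_surjective, ?_, isReduced_quotient_map J, fun i x hx => ?_, fun i => ?_,
    fun i j hij x hx => ?_⟩
  · rw [Ideal.mk_ker, Ideal.map_le_iff_le_comap]
    intro p hp
    exact (show IsNilpotent p from hp).map φ
  · obtain ⟨x, rfl⟩ := Ideal.Quotient.mk_surjective x
    rw [← map_mul, Ideal.Quotient.eq_zero_iff_mem] at hx
    exact Ideal.Quotient.eq_zero_iff_mem.mpr
      (mem_map_of_mul_mem J (X (e i)) (fun p hp => isNilpotent_of_X_mul hp) x hx)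
  · haveI : IsReduced (MvPolynomial σ B ⧸ (Ideal.span {X (e i)} ⊔ J)) := by
      refine (Ideal.isRadical_iff_quotient_reduced _).mp fun p ⟨k, hk⟩ => mem_divisor_of_isNilpotent ?_
      have h := isNilpotent_killVar hk
      rw [map_pow] at h
      exact h.of_pow
    haveI := isReduced_quotient_map (R := R) (Ideal.span {X (e i)} ⊔ J)
    refine (Ideal.isRadical_iff_quotient_reduced _).mp fun y ⟨k, hk⟩ => ?_
    obtain ⟨y, rfl⟩ := Ideal.Quotient.mk_surjective y
    rw [← map_pow, ← Ideal.mem_comap, hsup] at hk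
    rw [← Ideal.mem_comap, hsup]
    exact ((Ideal.isRadical_iff_quotient_reduced _).mpr ‹_›) ⟨k, hk⟩
  · obtain ⟨x, rfl⟩ := Ideal.Quotient.mk_surjective x
    rw [← map_mul, ← Ideal.mem_comap, hsup] at hx
    rw [← Ideal.mem_comap, hsup]
    refine mem_map_of_mul_mem _ (X (e j)) (fun p hp => ?_) x hx
    have h := isNilpotent_killVar hp
    rw [map_mul, killVar_X_of_ne (fun h => hij (he h))] at h
    exact mem_divisor_of_isNilpotent (isNilpotent_of_X_mul h)

/-- connectedness of the unramified locus of a Kummer algebra over a local ring weakly étale over a polynomial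
ring, with roots of distinct variables -/
theorem isConnected_of_weaklyEtale {R : Type u} [CommRing R] [IsLocalRing R] [Algebra (MvPolynomial σ B) R]
    [Algebra.WeaklyEtale (MvPolynomial σ B) R] {ι : Type v} [Fintype ι] [DecidableEq ι]
    (e : ι → σ) (he : Function.Injective e) (a : ι → R) (hae : ∀ i, algebraMap (MvPolynomial σ B) R (X (e i)) = a i)
    (ha : ∀ i, a i ∈ IsLocalRing.maximalIdeal R) (n : ι → ℕ) [∀ i, NeZero (n i)]
    (hn : ∀ i, IsUnit ((n i : ℕ) : R)) :
    IsConnected (PrimeSpectrum.basicOpen (tt a n) : Set (PrimeSpectrum (kummer R a n))) := by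
  obtain ⟨f, hf, hker, -, hnzd, hred, hmod⟩ := exists_reduction (B := B) (R := R) e he
  exact isConnected_basicOpen a n f hf hker ha hn (fun i => hae i ▸ hnzd i) (fun i => hae i ▸ hred i)
    (fun i j => hae i ▸ hae j ▸ hmod i j)

end Groth.Agent.EtRamLib.Kummer.Basis
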