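import Groth.Agent.EtRamLib.Kummer.Torsor
import Mathlib.FieldTheory.Separable

/-! Torsor algebras generated by one root of a separable polynomial. -/

set_option autoImplicit false

universe u v

open CategoryTheory Polynomial AlgebraicGeometry
open scoped Polynomial

namespace Groth.Agent.EtRamLib.Kummer

variable {A : Type u} [CommRing A]

theorem etale_adjoinRoot {f : A[X]} (hf : f.Monic) (hsep : f.Separable) : Algebra.Etale A (AdjoinRoot f) := by
  obtain ⟨a, b, hab⟩ := hsep
  let P : StandardEtalePair A :=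
    { f := f
      monic_f := hf
      g := 1
      cond := ⟨b, a, 0, by rw [pow_zero]; linear_combination hab⟩ }
  have e : P.Ring ≃ₐ[A] AdjoinRoot f :=
    P.equivAwayAdjoinRoot.trans (((IsLocalization.atUnit (AdjoinRoot P.f) (Localization.Away (AdjoinRoot.mk P.f P.g))
      (AdjoinRoot.mk P.f P.g) (by simp [P])).symm).restrictScalars A)
  exact Algebra.Etale.of_equiv e

variable {B : Type u} [CommRing B] [Algebra A B] [Module.Finite A B] [Algebra.Etale A B]
  {G : Type v} [Group G] [Fintype G] {σ : G → (B →ₐ[A] B)}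

/-- A root with distinct conjugates at every geometric point generates a torsor algebra. -/
theorem bijective_liftAlgHom (h : IsTorsor A B σ) {f : A[X]} (hf : f.Monic) (hsep : f.Separable)
    (hdeg : f.natDegree = Fintype.card G) (t : B) (ht : f.eval₂ (Algebra.ofId A B).toRingHom t = 0)
    (hdist : ∀ (Ω : Type u) [Field Ω] [IsAlgClosed Ω] (s : B →+* Ω) (g g' : G),
      s (σ g t) = s (σ g' t) → g = g') :
    Function.Bijective (AdjoinRoot.liftAlgHom f (Algebra.ofId A B) t ht) := by
  classical
  haveI := etale_adjoinRoot hf hsep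
  haveI := hf.finite_adjoinRoot
  refine bijective_of_points _ fun Ω _ _ q => ?_
  let x : A →+* Ω := q.comp (AdjoinRoot.of f)
  let ω := q (AdjoinRoot.root f)
  have hω : (f.map x).IsRoot ω := by
    rw [IsRoot, eval_map]
    show f.eval₂ (q.comp (AdjoinRoot.of f)) (q (AdjoinRoot.root f)) = 0
    rw [← hom_eval₂, AdjoinRoot.eval₂_root, map_zero]
  obtain ⟨s₀, hs₀⟩ := h.exists_pt Ω x
  let R : Finset Ω := Finset.univ.image fun g : G => s₀ (σ g t)
  have hRcard : R.card = Fintype.card G := by
    rw [Finset.card_image_of_injective _ (fun g g' e => hdist Ω s₀ g g' e), Finset.card_univ]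
  have hR : R ⊆ (f.map x).roots.toFinset := by
    intro z hz
    obtain ⟨g, -, rfl⟩ := Finset.mem_image.mp hz
    rw [Multiset.mem_toFinset, mem_roots (hf.map x).ne_zero, IsRoot, eval_map, ← hs₀]
    have h1 : (σ g).toRingHom (f.eval₂ (Algebra.ofId A B).toRingHom t) = 0 := by rw [ht, map_zero]
    rw [hom_eval₂] at h1
    have h2 := congrArg s₀ h1
    rw [hom_eval₂, map_zero] at h2
    convert! h2 using 2
    exact RingHom.ext fun a => congrArg s₀ ((σ g).commutes a).symm
  have hReq : R = (f.map x).roots.toFinset := Finset.eq_of_subset_of_card_le hR (by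
    rw [hRcard, ← hdeg]
    exact (Multiset.toFinset_card_le _).trans ((card_roots' _).trans (natDegree_map_le)))
  have hmem : ω ∈ R := by rw [hReq, Multiset.mem_toFinset, mem_roots (hf.map x).ne_zero]; exact hω
  obtain ⟨g, -, hg⟩ := Finset.mem_image.mp hmem
  refine ⟨s₀.comp (σ g).toRingHom, ?_, fun s hs => ?_⟩
  · refine AdjoinRoot.ringHom_ext ?_ ?_
    · refine RingHom.ext fun a => ?_
      simp only [RingHom.comp_apply, AlgHom.toRingHom_eq_coe, RingHom.coe_coe]
      rw [← AdjoinRoot.algebraMap_eq, AlgHom.commutes, AlgHom.commutes]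
      exact congr($hs₀ a)
    · simp only [RingHom.comp_apply, AlgHom.toRingHom_eq_coe, RingHom.coe_coe, AdjoinRoot.liftAlgHom_root]
      exact hg
  · have hsA : s₀.comp (algebraMap A B) = s.comp (algebraMap A B) := RingHom.ext fun a => by
      have h1 := congr($hs (AdjoinRoot.of f a))
      simp only [RingHom.comp_apply, AlgHom.toRingHom_eq_coe, RingHom.coe_coe] at h1
      rw [← AdjoinRoot.algebraMap_eq, AlgHom.commutes] at h1
      rw [hs₀]
      exact h1.symm
    obtain ⟨g', hg', -⟩ := h.free Ω s₀ s hsA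
    have h1 := congr($hs (AdjoinRoot.root f))
    simp only [RingHom.comp_apply, AlgHom.toRingHom_eq_coe, RingHom.coe_coe, AdjoinRoot.liftAlgHom_root, ← hg'] at h1
    rw [← hg', hdist Ω s₀ g' g (h1.trans hg.symm)]

/-- The geometric statement: an equivariant isomorphism with the spectrum of the monogenic algebra. -/
theorem exists_iso {G' : Type v} [Group G'] {P : FEt.Cat (Spec (CommRingCat.of A))} {ρ : G' →* Aut P}
    {σ' : G' → (B →ₐ[A] B)} (e : P.left ≅ Spec (CommRingCat.of B))
    (he : e.hom ≫ Spec.map (CommRingCat.ofHom (algebraMap A B)) = P.hom)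
    (hσ : ∀ g, (ρ g).hom.left ≫ e.hom = e.hom ≫ Spec.map (CommRingCat.ofHom (σ' g).toRingHom))
    {C : Type u} [CommRing C] [Algebra A C] (Φ : C →ₐ[A] B) (hΦ : Function.Bijective Φ)
    (τ : G' → (C →+* C)) (hτ : ∀ g, Φ.toRingHom.comp (τ g) = (σ' g).toRingHom.comp Φ.toRingHom) :
    ∃ e' : P.left ≅ Spec (CommRingCat.of C),
      e'.hom ≫ Spec.map (CommRingCat.ofHom (algebraMap A C)) = P.hom ∧
      ∀ g, (ρ g).hom.left ≫ e'.hom = e'.hom ≫ Spec.map (CommRingCat.ofHom (τ g)) := by
  haveI : IsIso (CommRingCat.ofHom Φ.toRingHom) :=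
    (ConcreteCategory.isIso_iff_bijective _).mpr hΦ
  refine ⟨e ≪≫ asIso (Spec.map (CommRingCat.ofHom Φ.toRingHom)), ?_, fun g => ?_⟩
  · rw [Iso.trans_hom, asIso_hom, Category.assoc, ← Spec.map_comp, ← he]
    congr 2
    exact CommRingCat.hom_ext (RingHom.ext Φ.commutes)
  · rw [Iso.trans_hom, asIso_hom, ← Category.assoc, hσ, Category.assoc, Category.assoc, ← Spec.map_comp,
      ← Spec.map_comp]
    congr 2
    exact CommRingCat.hom_ext (hτ g).symm

end Groth.Agent.EtRamLib.Kummer
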