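import Groth.Agent.EtRamLib.Kummer.UnitConst

/-! Base change maps and units. -/

set_option autoImplicit false

universe u

open CategoryTheory CategoryTheory.Limits AlgebraicGeometry Opposite

namespace Groth.Agent.EtRamLib.Kummer.Cover

variable {X Y X' Y' : Scheme.{u}} (f : X ⟶ Y) (g : Y' ⟶ Y) (f' : X' ⟶ Y') (g' : X' ⟶ X)
  (w : g' ≫ f = f' ≫ g)

/-- The comparison of the right adjoints in a commutative square. -/
noncomputable def pushSquare : EtCoh.push g' ⋙ EtCoh.push f ≅ EtCoh.push f' ⋙ EtCoh.push g :=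
  EtCoh.pushComp f g' ≪≫ EtCoh.pushCongr w ≪≫ (EtCoh.pushComp g f').symm

/-- The comparison of the left adjoints in a commutative square. -/
noncomputable def pullSquare : EtCoh.pull f ⋙ EtCoh.pull g' ≅ EtCoh.pull g ⋙ EtCoh.pull f' :=
  Adjunction.leftAdjointUniq ((EtCoh.pullPushAdj f).comp (EtCoh.pullPushAdj g'))
    (((EtCoh.pullPushAdj g).comp (EtCoh.pullPushAdj f')).ofNatIsoRight (pushSquare f g f' g' w).symm)

theorem baseChange0_eq (F : EtCoh.Ab X) : EtCoh.baseChange0 f g f' g' w F =
    ((EtCoh.pullPushAdj g).homEquiv ((EtCoh.push f).obj F) ((EtCoh.push f').obj ((EtCoh.pull g').obj F))).symm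
      ((EtCoh.push f).map ((EtCoh.pullPushAdj g').unit.app F) ≫ (pushSquare f g f' g' w).hom.app _) := rfl

theorem baseChange0_natural {F F' : EtCoh.Ab X} (a : F ⟶ F') :
    (EtCoh.pull g).map ((EtCoh.push f).map a) ≫ EtCoh.baseChange0 f g f' g' w F' =
      EtCoh.baseChange0 f g f' g' w F ≫ (EtCoh.push f').map ((EtCoh.pull g').map a) := by
  rw [baseChange0_eq, baseChange0_eq]
  erw [← Adjunction.homEquiv_naturality_left_symm, ← Adjunction.homEquiv_naturality_right_symm]
  congr 1
  rw [Category.assoc]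
  erw [← (pushSquare f g f' g' w).hom.naturality]
  rw [← Category.assoc, ← Category.assoc]
  congr 1
  rw [← Functor.map_comp]
  erw [← Functor.map_comp]
  congr 1
  exact (EtCoh.pullPushAdj g').unit.naturality a

theorem pull_map_unit_baseChange0 (G : EtCoh.Ab Y) :
    (EtCoh.pull g).map ((EtCoh.pullPushAdj f).unit.app G) ≫
      EtCoh.baseChange0 f g f' g' w ((EtCoh.pull f).obj G) ≫
      (EtCoh.push f').map ((pullSquare f g f' g' w).hom.app G) =
    (EtCoh.pullPushAdj f').unit.app ((EtCoh.pull g).obj G) := by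
  apply ((EtCoh.pullPushAdj g).homEquiv _ _).injective
  rw [Adjunction.homEquiv_naturality_left, Adjunction.homEquiv_naturality_right, baseChange0_eq]
  erw [Equiv.apply_symm_apply, Adjunction.homEquiv_unit]
  have h := Adjunction.unit_leftAdjointUniq_hom_app ((EtCoh.pullPushAdj f).comp (EtCoh.pullPushAdj g'))
    (((EtCoh.pullPushAdj g).comp (EtCoh.pullPushAdj f')).ofNatIsoRight (pushSquare f g f' g' w).symm) G
  have h2 : (((EtCoh.pullPushAdj g).comp (EtCoh.pullPushAdj f')).ofNatIsoRight
      (pushSquare f g f' g' w).symm).unit.app G =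
      ((EtCoh.pullPushAdj g).comp (EtCoh.pullPushAdj f')).unit.app G ≫
        (pushSquare f g f' g' w).inv.app _ := by
    simp [Adjunction.ofNatIsoRight, Adjunction.mkOfHomEquiv, Adjunction.equivHomsetRightOfNatIso]
  rw [h2] at h
  have h3 : ((EtCoh.pullPushAdj f).comp (EtCoh.pullPushAdj g')).unit.app G ≫
      (EtCoh.push g' ⋙ EtCoh.push f).map ((pullSquare f g f' g' w).hom.app G) ≫
      (pushSquare f g f' g' w).hom.app _ = ((EtCoh.pullPushAdj g).comp (EtCoh.pullPushAdj f')).unit.app G := by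
    rw [← Category.assoc]
    erw [h]
    rw [Category.assoc, Iso.inv_hom_id_app]
    exact Category.comp_id _
  rw [NatTrans.naturality, Adjunction.comp_unit_app, Adjunction.comp_unit_app] at h3
  simp only [Category.assoc] at h3 ⊢
  exact h3

theorem isIso_baseChange0_of_unit (G : EtCoh.Ab Y) [IsIso ((EtCoh.pullPushAdj f).unit.app G)]
    [IsIso ((EtCoh.pullPushAdj f').unit.app ((EtCoh.pull g).obj G))] :
    IsIso (EtCoh.baseChange0 f g f' g' w ((EtCoh.pull f).obj G)) := by
  have h := pull_map_unit_baseChange0 f g f' g' w G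
  rw [← IsIso.eq_inv_comp, ← IsIso.eq_comp_inv] at h
  rw [h]
  infer_instance

theorem isIso_baseChange0_of_iso {F F' : EtCoh.Ab X} (e : F ≅ F')
    [IsIso (EtCoh.baseChange0 f g f' g' w F)] : IsIso (EtCoh.baseChange0 f g f' g' w F') := by
  have h := baseChange0_natural f g f' g' w e.hom
  rw [← IsIso.eq_inv_comp] at h
  rw [h]
  infer_instance

theorem isIso_baseChange0_const [IsOpenImmersion f] [IsOpenImmersion f'] (M : Type) [AddCommGroup M] [Finite M]
    (hI : EtDepthLib.ClopenI f) (hS : EtDepthLib.ClopenS f)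
    (hI' : EtDepthLib.ClopenI f') (hS' : EtDepthLib.ClopenS f') :
    IsIso (EtCoh.baseChange0 f g f' g' w (EtCoh.const X M)) := by
  haveI : IsIso ((EtCoh.pullPushAdj f).unit.app (EtCoh.const Y M)) := isIso_unit_const f hI hS M
  haveI : IsIso ((EtCoh.pullPushAdj f').unit.app (EtCoh.const Y' M)) := isIso_unit_const f' hI' hS' M
  haveI : IsIso ((EtCoh.pullPushAdj f').unit.app ((EtCoh.pull g).obj (EtCoh.const Y M))) := by
    have h := (EtCoh.pullPushAdj f').unit.naturality (EtCore.pullConst g M).hom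
    rw [← IsIso.eq_comp_inv] at h
    have h' := h.symm
    have : IsIso ((EtCore.pullConst g M).hom ≫ (EtCoh.pullPushAdj f').unit.app (EtCoh.const Y' M)) :=
      inferInstance
    exact (IsIso.eq_comp_inv _).mpr ((EtCoh.pullPushAdj f').unit.naturality (EtCore.pullConst g M).hom).symm ▸
      inferInstance
  haveI := isIso_baseChange0_of_unit f g f' g' w (EtCoh.const Y M)
  exact isIso_baseChange0_of_iso f g f' g' w (EtCore.pullConst f M)

end Groth.Agent.EtRamLib.Kummer.Cover
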