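import Groth.Agent.EtRamLib.Kummer.Seq
import Groth.Prelude.Def_TwC
import Mathlib.FieldTheory.Finite.Basic
import Mathlib.AlgebraicGeometry.ResidueField

/-! The kernel of Artin-Schreier: a function `a` with `a ^ p = a` is a locally constant map to `Z/p`. -/

set_option autoImplicit false

universe u

open CategoryTheory CategoryTheory.Limits MonoidalCategory CartesianMonoidalCategory MonObj GrpObj AlgebraicGeometry
open Groth.Agent.RedPts

namespace Groth.Agent.EtRamLib.Kummer

variable {S : Scheme.{u}} (p : ℕ) [Fact p.Prime]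

lemma ga_one' {T : Over S} : Red.gaFn (1 : T ⟶ Red.Ga S) = 0 := by
  have h := ga_mul (1 : T ⟶ Red.Ga S) 1
  have h2 := congrArg Red.gaFn (_root_.mul_one (1 : T ⟶ Red.Ga S))
  linear_combination h2 - h

lemma ga_inv {T : Over S} (x : T ⟶ Red.Ga S) : Red.gaFn x⁻¹ = -Red.gaFn x := by
  have h := ga_mul x⁻¹ x
  rw [inv_mul_cancel, ga_one'] at h
  linear_combination -h

lemma castp (hp : (p : Γ(S, ⊤)) = 0) (T : Over S) : (p : Γ(T.left, ⊤)) = 0 := by
  rw [← map_natCast T.hom.appTop.hom, hp, map_zero]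

/-- The idempotent of the locus where `a = m`. -/
noncomputable def idem {R : Type u} [CommRing R] (a : R) (m : ZMod p) : R := 1 - (a - (m.val : R)) ^ (p - 1)

lemma idem_mul {R : Type u} [CommRing R] (hp : (p : R) = 0) {a : R} (ha : a ^ p = a) (m : ZMod p) :
    idem p a m * (a - (m.val : R)) = 0 := by
  cases subsingleton_or_nontrivial R
  · exact Subsingleton.elim _ _
  haveI : CharP R p := (CharP.charP_iff_prime_eq_zero Fact.out).mpr hp
  have h : (a - (m.val : R)) ^ p = a - (m.val : R) := by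
    rw [sub_pow_char, ha, ← Nat.cast_pow]
    congr 1
    rw [CharP.natCast_eq_natCast R p, Nat.ModEq, ← ZMod.natCast_eq_natCast_iff', Nat.cast_pow, ZMod.pow_card]
  rw [idem, sub_mul, _root_.one_mul, ← pow_succ, Nat.sub_add_cancel (Fact.out : p.Prime).one_le, h, sub_self]

lemma exists_idem_ne_zero {K : Type u} [Field K] (hp : (p : K) = 0) {a : K} (ha : a ^ p = a) :
    ∃ m : ZMod p, idem p a m ≠ 0 := by
  haveI : CharP K p := (CharP.charP_iff_prime_eq_zero Fact.out).mpr hp
  have h := (Subfield.mem_bot_iff_pow_eq_self K p).mpr ha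
  rw [← ZMod.fieldRange_castHom_eq_bot p] at h
  obtain ⟨m, hm⟩ := h
  refine ⟨m, ?_⟩
  rw [idem, ← hm, ZMod.castHom_apply, ← ZMod.natCast_val, sub_self, zero_pow
    (Nat.sub_pos_of_lt (Fact.out : p.Prime).one_lt).ne', sub_zero]
  exact one_ne_zero

variable {G' : Over S} [GrpObj G'] (e : G' ≅ TwC.const S (Multiplicative (ZMod p))) (i : G' ⟶ Red.Ga S) [IsMonHom i]

lemma fn_pt (hp : (p : Γ(S, ⊤)) = 0) (he : TwC.IsConstGrp (Multiplicative (ZMod p)) G' e)
    (hi : Red.gaFn (TwC.pt S (Multiplicative (ZMod p)) (Multiplicative.ofAdd 1) ≫ e.inv ≫ i) = 1)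
    {T : Over S} (m : ZMod p) :
    Red.gaFn (toUnit T ≫ TwC.pt S (Multiplicative (ZMod p)) (Multiplicative.ofAdd m) ≫ e.inv ≫ i) =
      (m.val : Γ(T.left, ⊤)) := by
  let f : ZMod p →+ Γ((𝟙_ (Over S)).left, ⊤) := AddMonoidHom.mk'
    (fun m => Red.gaFn (TwC.pt S (Multiplicative (ZMod p)) (Multiplicative.ofAdd m) ≫ e.inv ≫ i))
    (fun a b => by
      rw [ofAdd_add, ← Category.assoc, ← he]
      rw [MonObj.mul_comp (g := i) (N := Red.Ga S), Category.assoc, Category.assoc, ga_mul])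
  have h : f m = (m.val : Γ((𝟙_ (Over S)).left, ⊤)) := by
    conv_lhs => rw [← ZMod.natCast_zmod_val m, ← nsmul_one m.val, map_nsmul]
    rw [show f 1 = 1 from hi, nsmul_one]
  rw [ga_comp]
  exact (congrArg (fun z => (toUnit T).left.appTop z) h).trans (map_natCast _ _)

section

variable {T : Over S}

/-- An open subscheme over `S`. -/
abbrev res (T : Over S) (U : T.left.Opens) : Over S := Over.mk (U.ι ≫ T.hom)

/-- The inclusion of an open subscheme over `S`. -/
abbrev resHom (T : Over S) (U : T.left.Opens) : res T U ⟶ T := Over.homMk U.ι rfl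

theorem kernel_inj (hp : (p : Γ(S, ⊤)) = 0) (he : TwC.IsConstGrp (Multiplicative (ZMod p)) G' e)
    (hi : Red.gaFn (TwC.pt S (Multiplicative (ZMod p)) (Multiplicative.ofAdd 1) ≫ e.inv ≫ i) = 1)
    (z z' : T ⟶ G') (hz : z ≫ i = z' ≫ i) : z = z' := by
  rw [← cancel_mono e.hom]
  set w := z ≫ e.hom with hw
  set w' := z' ≫ e.hom with hw'
  let C := fun _ : Multiplicative (ZMod p) => S
  let V : Multiplicative (ZMod p) → (TwC.const S (Multiplicative (ZMod p))).left.Opens :=
    fun m => (Sigma.ι C m).opensRange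
  let U : T.left → Multiplicative (ZMod p) × Multiplicative (ZMod p) → T.left.Opens :=
    fun _ mk => (w.left ⁻¹ᵁ V mk.1) ⊓ (w'.left ⁻¹ᵁ V mk.2)
  have hlift : ∀ (x : T ⟶ TwC.const S (Multiplicative (ZMod p))) (W : T.left.Opens) (m : Multiplicative (ZMod p)),
      W ≤ x.left ⁻¹ᵁ V m → resHom T W ≫ x = toUnit _ ≫ TwC.pt S _ m := by
    intro x W m hW
    apply Over.OverMorphism.ext
    have hr : Set.range (W.ι ≫ x.left).base ⊆ Set.range (Sigma.ι C m).base := by
      rintro _ ⟨v, rfl⟩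
      exact hW v.2
    have e1 := IsOpenImmersion.lift_fac (Sigma.ι C m) (W.ι ≫ x.left) hr
    have e2 : IsOpenImmersion.lift (Sigma.ι C m) (W.ι ≫ x.left) hr = W.ι ≫ T.hom := by
      have h3 := congrArg (fun q => q ≫ Sigma.desc fun _ : Multiplicative (ZMod p) => 𝟙 S) e1
      simp only [Category.assoc, colimit.ι_desc, Cofan.mk_ι_app, C] at h3
      simp only [Category.comp_id] at h3
      rw [h3]
      exact congrArg (W.ι ≫ ·) (Over.w x)
    show W.ι ≫ x.left = (toUnit (res T W) ≫ TwC.pt S _ m).left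
    rw [← e1, e2]
    rfl
  have hV : ∀ q, ∃ m, q ∈ V m := fun q => ⟨_, (sigmaOpenCover C).covers q⟩
  have hcover : TopologicalSpace.IsOpenCover fun t : Multiplicative (ZMod p) × Multiplicative (ZMod p) =>
      (w.left ⁻¹ᵁ V t.1) ⊓ (w'.left ⁻¹ᵁ V t.2) := by
    refine TopologicalSpace.IsOpenCover.mk (top_le_iff.mp fun t _ => ?_)
    obtain ⟨m, hm⟩ := hV (w.left.base t)
    obtain ⟨k, hk⟩ := hV (w'.left.base t)
    exact TopologicalSpace.Opens.mem_iSup.mpr ⟨(m, k), hm, hk⟩
  apply Over.OverMorphism.ext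
  refine (T.left.openCoverOfIsOpenCover _ hcover).hom_ext _ _ fun t => ?_
  change (resHom T _ ≫ w).left = (resHom T _ ≫ w').left
  set W := (w.left ⁻¹ᵁ V t.1) ⊓ (w'.left ⁻¹ᵁ V t.2) with hW
  have h1 := hlift w W t.1 inf_le_left
  have h2 := hlift w' W t.2 inf_le_right
  cases isEmpty_or_nonempty W.toScheme
  · haveI : IsEmpty (res T W).left := ‹IsEmpty W.toScheme›
    exact (isInitialOfIsEmpty (X := (res T W).left)).hom_ext _ _
  have hc : resHom T W ≫ z ≫ i = resHom T W ≫ z' ≫ i := by rw [hz]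
  have g1 : resHom T W ≫ z ≫ i = toUnit _ ≫ TwC.pt S _ t.1 ≫ e.inv ≫ i := by
    rw [← Category.assoc (toUnit _), ← h1, hw]; simp
  have g2 : resHom T W ≫ z' ≫ i = toUnit _ ≫ TwC.pt S _ t.2 ≫ e.inv ≫ i := by
    rw [← Category.assoc (toUnit _), ← h2, hw']; simp
  rw [g1, g2] at hc
  have hv := congrArg Red.gaFn hc
  rw [← ofAdd_toAdd t.1, ← ofAdd_toAdd t.2, fn_pt p e i hp he hi, fn_pt p e i hp he hi] at hv
  haveI : Nontrivial Γ((res T W).left, ⊤) :=
    ((res T W).left.Γevaluation (Classical.choice ‹Nonempty W.toScheme›)).hom.domain_nontrivial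
  haveI : CharP Γ((res T W).left, ⊤) p := (CharP.charP_iff_prime_eq_zero Fact.out).mpr (castp p hp _)
  rw [CharP.natCast_eq_natCast Γ((res T W).left, ⊤) p, Nat.ModEq, ← ZMod.natCast_eq_natCast_iff',
    ZMod.natCast_zmod_val, ZMod.natCast_zmod_val] at hv
  rw [h1, h2, show t.1 = t.2 from hv]

theorem kernel_surj (hp : (p : Γ(S, ⊤)) = 0) (he : TwC.IsConstGrp (Multiplicative (ZMod p)) G' e)
    (hi : Red.gaFn (TwC.pt S (Multiplicative (ZMod p)) (Multiplicative.ofAdd 1) ≫ e.inv ≫ i) = 1)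
    (c : T ⟶ Red.Ga S) (hc : Red.gaFn c ^ p = Red.gaFn c) : ∃ z : T ⟶ G', z ≫ i = c := by
  set a := Red.gaFn c with ha
  let U : ZMod p → T.left.Opens := fun m => T.left.basicOpen (idem p a m)
  have hU : TopologicalSpace.IsOpenCover U := by
    refine TopologicalSpace.IsOpenCover.mk (top_le_iff.mp fun t _ => ?_)
    obtain ⟨m, hm⟩ := exists_idem_ne_zero p (a := (T.left.Γevaluation t).hom a)
      (by rw [← map_natCast (T.left.Γevaluation t).hom, castp p hp, map_zero]) (by rw [← map_pow, hc])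
    refine TopologicalSpace.Opens.mem_iSup.mpr ⟨m, ?_⟩
    refine (Scheme.evaluation_ne_zero_iff_mem_basicOpen T.left t (by trivial) (idem p a m)).mp ?_
    rw [idem, map_sub, map_one, map_pow, map_sub, map_natCast]
    exact hm
  have hloc : ∀ m, (U m).ι.appTop a = (m.val : Γ((U m).toScheme, ⊤)) := by
    intro m
    have h := congrArg (U m).ι.appTop.hom (idem_mul p (castp p hp T) hc m)
    rw [map_mul, map_zero, map_sub, map_natCast] at h
    refine sub_eq_zero.mp ((IsUnit.mul_right_eq_zero ?_).mp h)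
    have h2 : (U m).toScheme.basicOpen ((U m).ι.appTop (idem p a m)) = ⊤ := by
      rw [← Scheme.preimage_basicOpen_top]
      ext x
      simp [U]
    refine RingedSpace.isUnit_of_isUnit_germ (U m).toScheme.toRingedSpace ⊤ _ fun x hx => ?_
    exact ((U m).toScheme.mem_basicOpen _ x hx).mp (h2.symm ▸ TopologicalSpace.Opens.mem_top x)
  have hdisj : ∀ m k, m ≠ k → U m ⊓ U k = ⊥ := by
    intro m k hmk
    refine eq_bot_iff.mpr fun t ht => ?_
    exfalso
    apply hmk
    have hp' : (p : T.left.residueField t) = 0 := by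
      rw [← map_natCast (T.left.Γevaluation t).hom, castp p hp, map_zero]
    haveI : CharP (T.left.residueField t) p := (CharP.charP_iff_prime_eq_zero Fact.out).mpr hp'
    have hval : ∀ q, t ∈ U q → (T.left.Γevaluation t).hom a = (q.val : T.left.residueField t) := by
      intro q hq
      have h := congrArg (T.left.Γevaluation t).hom (idem_mul p (castp p hp T) hc q)
      rw [map_mul, map_zero, map_sub, map_natCast] at h
      exact sub_eq_zero.mp (IsUnit.mul_right_eq_zero
        ((Scheme.evaluation_ne_zero_iff_mem_basicOpen T.left t (by trivial) _).mpr hq).isUnit |>.mp h)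
    have hv := (hval m ht.1).symm.trans (hval k ht.2)
    rwa [CharP.natCast_eq_natCast (T.left.residueField t) p, Nat.ModEq, ← ZMod.natCast_eq_natCast_iff',
      ZMod.natCast_zmod_val, ZMod.natCast_zmod_val] at hv
  let C := fun _ : Multiplicative (ZMod p) => S
  let 𝒰 := T.left.openCoverOfIsOpenCover U hU
  let f : ∀ m, 𝒰.X m ⟶ (TwC.const S (Multiplicative (ZMod p))).left :=
    fun m => (U m).ι ≫ T.hom ≫ Sigma.ι C (Multiplicative.ofAdd m)
  have hf : ∀ m k, pullback.fst (𝒰.f m) (𝒰.f k) ≫ f m = pullback.snd (𝒰.f m) (𝒰.f k) ≫ f k := by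
    intro m k
    rcases eq_or_ne m k with rfl | hne
    · simp only [f, ← Category.assoc]
      exact congrArg (fun q => (q ≫ T.hom) ≫ Sigma.ι C _) pullback.condition
    · have : IsEmpty ↥(pullback (𝒰.f m) (𝒰.f k)) := ⟨fun x => by
        have h1 : (pullback.fst (𝒰.f m) (𝒰.f k) ≫ 𝒰.f m).base x ∈ U m :=
          ((pullback.fst (𝒰.f m) (𝒰.f k)).base x).2
        have h2 : (pullback.fst (𝒰.f m) (𝒰.f k) ≫ 𝒰.f m).base x ∈ U k := by
          rw [pullback.condition]; exact ((pullback.snd (𝒰.f m) (𝒰.f k)).base x).2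
        exact (le_of_eq (hdisj m k hne) ⟨h1, h2⟩).elim⟩
      exact (isInitialOfIsEmpty (X := pullback (𝒰.f m) (𝒰.f k))).hom_ext _ _
  let w : T ⟶ TwC.const S (Multiplicative (ZMod p)) := Over.homMk (𝒰.glueMorphisms f hf) (by
    refine 𝒰.hom_ext _ _ fun m => ?_
    rw [Scheme.Cover.ι_glueMorphisms_assoc]
    show ((U m).ι ≫ T.hom ≫ Sigma.ι C _) ≫ Sigma.desc (fun _ => 𝟙 S) = (U m).ι ≫ T.hom
    simp)
  refine ⟨w ≫ e.inv, Over.OverMorphism.ext (𝒰.hom_ext _ _ fun (m : ZMod p) => ?_)⟩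
  change (resHom T (U m) ≫ (w ≫ e.inv) ≫ i).left = (resHom T (U m) ≫ c).left
  congr 1
  have hw : resHom T (U m) ≫ w = toUnit _ ≫ TwC.pt S _ (Multiplicative.ofAdd m) := by
    apply Over.OverMorphism.ext
    exact 𝒰.ι_glueMorphisms f hf m
  rw [Category.assoc, ← Category.assoc (resHom T (U m)), hw, Category.assoc]
  apply ga_injective
  rw [fn_pt p e i hp he hi, ga_comp]
  exact (hloc m).symm

end

end Groth.Agent.EtRamLib.Kummer
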