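import Groth.Agent.EtRamLib.Kummer.SNCConn
import Groth.Agent.EtDepthLib.Clopen
import Groth.Agent.LimTop.Closure
import Groth.Agent.WEtale.Local
import Groth.Agent.EtConsAb.SpecialCrit
import Groth.Agent.S1412

/-! The complement of a relative normal crossings divisor and clopen subsets of etale schemes. -/

set_option autoImplicit false

universe u

open CategoryTheory CategoryTheory.Limits AlgebraicGeometry TopologicalSpace

namespace Groth.Agent.EtRamLib.Kummer.Cover

open SGA1t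

/-- In an etale scheme the generisations of a point lying in `Ov` form a connected set. -/
def GenConn {X U : Scheme.{u}} (j : U ⟶ X) [IsOpenImmersion j] : Prop :=
  ∀ (W : X.Etale) (w : W.left),
    _root_.IsConnected ({y | y ⤳ w} ∩ (EtDepthLib.over j W : Set W.left))

theorem isConnected_complement {B : Type u} [CommRing B] {ι : Type} [Fintype ι] [DecidableEq ι] (a : ι → B)
    (h : _root_.IsConnected (PrimeSpectrum.basicOpen (Basis.tt a (fun _ => 1)) :
      Set (PrimeSpectrum (kummer B a (fun _ => 1))))) :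
    _root_.IsConnected (PrimeSpectrum.basicOpen (∏ i, a i) : Set (PrimeSpectrum B)) := by
  let s : kummer B a (fun _ => 1) →+* B := Ideal.Quotient.lift _ (MvPolynomial.eval a) (by
    intro p hp
    refine (Ideal.span_le (I := RingHom.ker _)).mpr ?_ hp
    rintro _ ⟨i, rfl⟩
    simp)
  let al := algebraMap B (kummer B a (fun _ => 1))
  have hs : s.comp al = RingHom.id B := RingHom.ext fun r => MvPolynomial.eval_C (f := a) r
  have hsurj : Function.Surjective (PrimeSpectrum.comap al) := fun p => ⟨PrimeSpectrum.comap s p, by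
    rw [← PrimeSpectrum.comap_comp_apply, hs]; rfl⟩
  have himg : PrimeSpectrum.comap al '' (PrimeSpectrum.basicOpen (Basis.tt a (fun _ => 1)) : Set _) =
      (PrimeSpectrum.basicOpen (∏ i, a i) : Set (PrimeSpectrum B)) := by
    have h1 : PrimeSpectrum.comap al ⁻¹' (PrimeSpectrum.basicOpen (∏ i, a i) : Set (PrimeSpectrum B)) =
        (PrimeSpectrum.basicOpen (Basis.tt a (fun _ => 1)) : Set _) :=
      congrArg SetLike.coe (preimage_U₀ a (fun _ => 1))
    rw [← h1]
    exact Set.image_preimage_eq _ hsurj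
  rw [← himg]
  exact h.image _ (PrimeSpectrum.continuous_comap al).continuousOn

theorem weaklyEtale_stalk {X Y : Scheme.{u}} (g : Y ⟶ X) [Etale g] (y : Y) :
    @Algebra.WeaklyEtale (X.presheaf.stalk (g y)) (Y.presheaf.stalk y) _ _ (g.stalkMap y).hom.toAlgebra := by
  have hw : WeaklyEtale g := inferInstance
  obtain ⟨h1, h2⟩ := (Groth.Agent.S1412.result g).mp hw y
  letI := (g.stalkMap y).hom.toAlgebra
  exact { flat := RingHom.flat_algebraMap_iff.mp h1, flat_lmul' := h2 }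

theorem isConnected_gen {X S : Scheme.{u}} (f : X ⟶ S) {r : ℕ} (φ : Fin r → Γ(X, ⊤))
    (hD : IsRelSNC f φ) {Y : Scheme.{u}} (g₀ : Y ⟶ X) [Etale g₀] (w : Y) (hw : w ∉ g₀ ⁻¹' (compl φ : Set X)) :
    _root_.IsConnected ({y | y ⤳ w} ∩ g₀ ⁻¹' (compl φ : Set X)) := by
  classical
  have hx : Nonempty (vanishingAt φ (g₀ w)) := by
    by_contra hne
    refine hw ?_
    show g₀ w ∈ X.basicOpen (∏ i, φ i)
    refine (X.mem_basicOpen (∏ i, φ i) (g₀ w) trivial).mpr ?_
    rw [map_prod]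
    refine IsUnit.prod_iff.mpr fun i _ => ?_
    by_contra hi
    exact hne ⟨⟨i, fun hi' => hi ((X.mem_basicOpen (φ i) (g₀ w) trivial).mp hi')⟩⟩
  haveI := finite_vanishingAt φ (g₀ w)
  letI := Fintype.ofFinite (vanishingAt φ (g₀ w))
  let g : X.presheaf.stalk (g₀ w) →+* Y.presheaf.stalk w := (g₀.stalkMap w).hom
  letI : Algebra (X.presheaf.stalk (g₀ w)) (Y.presheaf.stalk w) := g.toAlgebra
  haveI : IsLocalHom (algebraMap (X.presheaf.stalk (g₀ w)) (Y.presheaf.stalk w)) :=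
    inferInstanceAs (IsLocalHom (g₀.stalkMap w).hom)
  haveI := weaklyEtale_stalk g₀ w
  have hc := isConnected_complement _ (isConnected_of_SNC f φ hD (g₀ w) hx (Y.presheaf.stalk w)
    (fun _ => 1) (fun _ => by simp))
  have hpre : (Spec (Y.presheaf.stalk w)).basicOpen
      ((Y.fromSpecStalk w).appTop (g₀.appTop (∏ i, φ i))) =
      U₀ (fun i : vanishingAt φ (g₀ w) =>
        algebraMap (X.presheaf.stalk (g₀ w)) (Y.presheaf.stalk w)
          ((X.presheaf.germ ⊤ (g₀ w) trivial).hom (φ i.1))) := by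
    have h1 : ∀ j, (Y.fromSpecStalk w).appTop (g₀.appTop (φ j)) =
        (Scheme.ΓSpecIso (CommRingCat.of (Y.presheaf.stalk w))).inv
          (algebraMap (X.presheaf.stalk (g₀ w)) (Y.presheaf.stalk w)
            ((X.presheaf.germ ⊤ (g₀ w) trivial).hom (φ j))) := fun j => by
      have := specOf_appTop φ (g₀ w) (Y.presheaf.stalk w) j
      refine Eq.trans ?_ this
      have e : Spec.map (g₀.stalkMap w) ≫ X.fromSpecStalk (g₀ w) = Y.fromSpecStalk w ≫ g₀ :=
        Scheme.SpecMap_stalkMap_fromSpecStalk g₀ (x := w)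
      show _ = (Spec.map (CommRingCat.ofHom g) ≫ X.fromSpecStalk (g₀ w)).appTop (φ j)
      erw [e]
      rfl
    have := @compl_specOf X r φ (g₀ w) (Y.presheaf.stalk w) _ g.toAlgebra _
      (fun j => (Y.fromSpecStalk w).appTop (g₀.appTop (φ j))) h1
    rw [map_prod, map_prod]
    exact this
  have hset : (Y.fromSpecStalk w) ⁻¹' (g₀ ⁻¹' (compl φ : Set X)) =
      (U₀ (fun i : vanishingAt φ (g₀ w) =>
        algebraMap (X.presheaf.stalk (g₀ w)) (Y.presheaf.stalk w)
          ((X.presheaf.germ ⊤ (g₀ w) trivial).hom (φ i.1))) : Set _) := by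
    rw [← hpre, ← Scheme.preimage_basicOpen_top, ← Scheme.preimage_basicOpen_top]
    rfl
  have himg : Y.fromSpecStalk w '' ((Y.fromSpecStalk w) ⁻¹' (g₀ ⁻¹' (compl φ : Set X))) =
      {y | y ⤳ w} ∩ g₀ ⁻¹' (compl φ : Set X) := by
    rw [Set.image_preimage_eq_inter_range, Scheme.range_fromSpecStalk, Set.inter_comm]
  rw [← himg, hset]
  exact hc.image _ (Y.fromSpecStalk w).continuous.continuousOn


theorem genConn_of_isRelSNC {X S : Scheme.{u}} (f : X ⟶ S) {r : ℕ} (φ : Fin r → Γ(X, ⊤))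
    (hD : IsRelSNC f φ) : GenConn (compl φ).ι := by
  classical
  intro W w
  haveI : Etale W.hom := W.prop
  have hov : (EtDepthLib.over (compl φ).ι W : Set W.left) = W.hom ⁻¹' (compl φ : Set X) := by
    show W.hom ⁻¹' (((compl φ).ι.opensRange : X.Opens) : Set X) = _
    rw [Scheme.Opens.opensRange_ι]
  rw [hov]
  by_cases hw : w ∈ W.hom ⁻¹' (compl φ : Set X)
  · refine ⟨⟨w, specializes_rfl, hw⟩, ?_⟩
    refine isPreconnected_of_forall w fun y hy => ?_
    refine ⟨{y | y ⤳ w} ∩ W.hom ⁻¹' (compl φ : Set X), subset_rfl, ⟨specializes_rfl, hw⟩, hy, ?_⟩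
    have hwc : w ∈ closure ({y} : Set W.left) := specializes_iff_mem_closure.mp hy.1
    intro u v hu hv hsub hun hvn
    obtain ⟨a, ⟨ha, ha'⟩, hau⟩ := hun
    obtain ⟨b, ⟨hb, hb'⟩, hbv⟩ := hvn
    rcases hsub ⟨specializes_rfl, hw⟩ with hwu | hwv
    · exact ⟨b, ⟨hb, hb'⟩, hb.mem_open hu hwu, hbv⟩
    · exact ⟨a, ⟨ha, ha'⟩, hau, ha.mem_open hv hwv⟩
  · exact isConnected_gen f φ hD W.hom w hw

theorem clopenI_of_genConn {X U : Scheme.{u}} (j : U ⟶ X) [IsOpenImmersion j] (h : GenConn j) :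
    EtDepthLib.ClopenI j := by
  intro W C hC hdis
  refine Set.eq_empty_iff_forall_notMem.2 fun w hw => ?_
  obtain ⟨y, hy, hy'⟩ := (h W w).nonempty
  exact hdis y (hy.mem_open hC.2 hw) hy'

/-- A clopen of the compact open part over `U` has specialisation-stable closure. -/
theorem exists_generization {X : Scheme.{u}} (W : X.Opens) (hW : IsRetrocompact (W : Set X)) (Z : Set X)
    (hZ : IsClopen (((↑) : W → X) ⁻¹' Z)) (hZW : Z ⊆ W) (w : X) (hw : w ∈ closure Z) : ∃ z ∈ Z, z ⤳ w := by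
  have hZo : IsOpen Z := by
    have h2 := W.2.isOpenMap_subtype_val _ hZ.2
    have e : Subtype.val '' ((Subtype.val : W → X) ⁻¹' Z) = Z :=
      Set.image_preimage_eq_of_subset (fun z hz => ⟨⟨z, hZW hz⟩, rfl⟩)
    exact e ▸ h2
  obtain ⟨V, hV, hwV, -⟩ := exists_isAffineOpen_mem_and_subset (TopologicalSpace.Opens.mem_top w)
  haveI : IsAffine (V : Scheme.{u}) := hV
  let E : Set (V : Scheme.{u}) := V.ι ⁻¹' Z
  have hEc : IsCompact E := by
    have hVW : IsCompact ((V : Set X) ∩ W) := by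
      rw [Set.inter_comm]; exact hW hV.isCompact V.2
    obtain ⟨t, ht, hteq⟩ := isClosed_induced_iff.mp hZ.1
    have : IsCompact ((V : Set X) ∩ W ∩ t) := hVW.inter_right ht
    rw [V.ι.isOpenEmbedding.isEmbedding.isCompact_iff]
    have e : V.ι '' E = (V : Set X) ∩ W ∩ t := by
      rw [Set.image_preimage_eq_inter_range, Scheme.Opens.range_ι]
      ext x
      constructor
      · rintro ⟨hx, hxV⟩
        exact ⟨⟨hxV, hZW hx⟩, (Set.ext_iff.mp hteq ⟨x, hZW hx⟩).mpr hx⟩
      · rintro ⟨⟨hxV, hxW⟩, hxt⟩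
        exact ⟨(Set.ext_iff.mp hteq ⟨x, hxW⟩).mp hxt, hxV⟩
    rw [e]; exact this
  have hEo : IsOpen E := hZo.preimage V.ι.continuous
  have hcl : (⟨w, hwV⟩ : (V : Scheme.{u})) ∈ closure E := by
    show _ ∈ closure (V.ι ⁻¹' Z)
    rw [← V.ι.isOpenEmbedding.isOpenMap.preimage_closure_eq_closure_preimage V.ι.continuous]
    exact hw
  obtain ⟨z, hz, hzw⟩ := EtConsAb.exists_specializes_of_isConstructible (hEc.isConstructible hEo) hcl
  exact ⟨V.ι z, hz, hzw.map V.ι.continuous⟩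

theorem clopenS_of_genConn {X U : Scheme.{u}} (j : U ⟶ X) [IsOpenImmersion j] (h : GenConn j)
    (hj : ∀ W : X.Etale, IsRetrocompact (EtDepthLib.over j W : Set W.left)) : EtDepthLib.ClopenS j := by
  intro W C' hC'
  let O := EtDepthLib.over j W
  let Z : Set W.left := O.ι '' C'
  let Z' : Set W.left := O.ι '' C'ᶜ
  have hsub : ∀ D : Set (O : Scheme.{u}), O.ι '' D ⊆ O := fun D => by
    rintro _ ⟨x, -, rfl⟩; exact x.2
  have hcl : ∀ D : Set (O : Scheme.{u}), IsClopen D → IsClopen (((↑) : O → W.left) ⁻¹' (O.ι '' D)) := fun D hD => by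
    have e : (((↑) : O → W.left) ⁻¹' (O.ι '' D)) = D := by
      ext x
      constructor
      · rintro ⟨y, hy, hyx⟩
        rwa [← show y = x from Subtype.ext hyx]
      · exact fun hx => ⟨x, hx, rfl⟩
    rw [e]; exact hD
  have hZo : ∀ D : Set (O : Scheme.{u}), IsOpen D → IsOpen (O.ι '' D) := fun D hD =>
    O.ι.isOpenEmbedding.isOpenMap D hD
  have key : ∀ (D : Set (O : Scheme.{u})), IsClopen D → ∀ w ∈ closure (O.ι '' D),
      {y | y ⤳ w} ∩ (O : Set W.left) ⊆ O.ι '' D := by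
    intro D hD w hw
    obtain ⟨z, hz, hzw⟩ := exists_generization O (hj W) _ (hcl D hD) (hsub D) w hw
    by_contra hne
    obtain ⟨y, hy, hyD⟩ := Set.not_subset.mp hne
    obtain ⟨q, -, hq, hq'⟩ := (h W w).isPreconnected (O.ι '' D) (O.ι '' Dᶜ) (hZo _ hD.2) (hZo _ hD.compl.2)
      (fun p hp => by
        by_cases hpD : (⟨p, hp.2⟩ : O) ∈ D
        · exact Or.inl ⟨_, hpD, rfl⟩
        · exact Or.inr ⟨_, hpD, rfl⟩)
      ⟨z, ⟨hzw, hsub D hz⟩, hz⟩
      ⟨y, hy, ⟨⟨y, hy.2⟩, fun hh => hyD ⟨_, hh, rfl⟩, rfl⟩⟩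
    obtain ⟨p, hp, rfl⟩ := hq
    obtain ⟨p', hp', hpp⟩ := hq'
    exact hp' ((show p' = p from Subtype.ext hpp) ▸ hp)
  have hdisj : ∀ w, w ∈ closure Z → w ∈ closure Z' → False := fun w h1 h2 => by
    obtain ⟨y, hy⟩ := (h W w).nonempty
    obtain ⟨p, hp, hpy⟩ := key C' hC' w h1 hy
    obtain ⟨p', hp', hpy'⟩ := key C'ᶜ hC'.compl w h2 hy
    exact hp' ((show p' = p from Subtype.ext (hpy'.trans hpy.symm)) ▸ hp)
  have hcov : closure Z ∪ closure Z' = Set.univ := by
    refine Set.eq_univ_of_forall fun w => ?_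
    obtain ⟨y, hyw, hyO⟩ := (h W w).nonempty
    rw [← closure_union]
    refine closure_mono ?_ (specializes_iff_mem_closure.mp hyw)
    rintro _ rfl
    by_cases hyC : (⟨_, hyO⟩ : O) ∈ C'
    · exact Or.inl ⟨_, hyC, rfl⟩
    · exact Or.inr ⟨_, hyC, rfl⟩
  have hcompl : closure Z = (closure Z')ᶜ := by
    ext w
    refine ⟨fun h1 h2 => hdisj w h1 h2, fun h2 => ?_⟩
    rcases (hcov.ge (Set.mem_univ w) : w ∈ closure Z ∪ closure Z') with h1 | h1
    · exact h1
    · exact absurd h1 h2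
  refine ⟨closure Z, ⟨isClosed_closure, hcompl ▸ isClosed_closure.isOpen_compl⟩, ?_⟩
  ext x
  constructor
  · intro hx
    by_contra hxC
    exact hdisj _ hx (subset_closure ⟨x, hxC, rfl⟩)
  · exact fun hx => subset_closure ⟨x, hx, rfl⟩

theorem isRetrocompact_over {X : Scheme.{u}} (g : Γ(X, ⊤)) (W : X.Etale) :
    IsRetrocompact (EtDepthLib.over (X.basicOpen g).ι W : Set W.left) := by
  have e : EtDepthLib.over (X.basicOpen g).ι W = W.left.basicOpen (W.hom.appTop g) := by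
    show W.hom ⁻¹ᵁ _ = _
    rw [Scheme.Opens.opensRange_ι]
    exact Scheme.preimage_basicOpen_top W.hom g
  rw [e]
  exact isRetrocompact_basicOpen _

theorem clopen_of_isRelSNC {X S : Scheme.{u}} (f : X ⟶ S) {r : ℕ} (φ : Fin r → Γ(X, ⊤))
    (hD : IsRelSNC f φ) : EtDepthLib.ClopenI (compl φ).ι ∧ EtDepthLib.ClopenS (compl φ).ι :=
  ⟨clopenI_of_genConn _ (genConn_of_isRelSNC f φ hD),
    clopenS_of_genConn _ (genConn_of_isRelSNC f φ hD) (isRetrocompact_over _)⟩

end Groth.Agent.EtRamLib.Kummer.Cover
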