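import Groth.Agent.EtRamLib.Kummer.Basis
import Mathlib.RingTheory.Spectrum.Prime.Homeomorph
import Mathlib.RingTheory.Ideal.Quotient.Nilpotent
import Mathlib.RingTheory.Localization.Away.Basic
import Mathlib.RingTheory.LocalRing.Basic
import Mathlib.RingTheory.IntegralClosure.IsIntegralClosure.Basic

/-! Connectedness of the unramified locus of a Kummer algebra over a local ring. -/

set_option autoImplicit false

universe u v w

namespace Groth.Agent.EtRamLib.Kummer.Basis

open MvPolynomial SGA1t

variable {R : Type u} [CommRing R] {ι : Type v} [Fintype ι] [DecidableEq ι]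

section Map

variable {R' : Type w} [CommRing R'] (f : R →+* R') {a : ι → R} {n : ι → ℕ} {a' : ι → R'} {n' : ι → ℕ}
  (h : ∀ i, (Ideal.Quotient.mk _ (X i ^ n i) : kummer R' a' n') = Ideal.Quotient.mk _ (C (f (a i))))

/-- functoriality of Kummer algebras -/
noncomputable def kmap : kummer R a n →+* kummer R' a' n' :=
  Ideal.Quotient.lift _ ((Ideal.Quotient.mk _).comp (MvPolynomial.map f)) (by
    intro p hp
    refine (Ideal.span_le (I := RingHom.ker _)).mpr ?_ hp
    rintro _ ⟨i, rfl⟩
    rw [SetLike.mem_coe, RingHom.mem_ker, RingHom.comp_apply, map_sub, map_pow, map_X, map_C, map_sub, h,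
      sub_self])

omit [Fintype ι] [DecidableEq ι] in
theorem kmap_mk (p : MvPolynomial ι R) :
    kmap f h (Ideal.Quotient.mk _ p) = Ideal.Quotient.mk _ (MvPolynomial.map f p) := rfl

omit [Fintype ι] [DecidableEq ι] in
theorem kmap_algebraMap (r : R) : kmap f h (algebraMap R _ r) = algebraMap R' _ (f r) :=
  (kmap_mk f h (C r)).trans (congrArg _ (map_C f r))

omit [Fintype ι] [DecidableEq ι] in
theorem kmap_smul (r : R) (x : kummer R a n) : kmap f h (r • x) = f r • kmap f h x := by
  obtain ⟨p, rfl⟩ := Ideal.Quotient.mk_surjective x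
  rw [smul_mk, map_mul, kmap_algebraMap, kmap_mk, smul_mk]

omit [Fintype ι] [DecidableEq ι] in
theorem kmap_surjective (hf : Function.Surjective f) : Function.Surjective (kmap f h) := fun x => by
  obtain ⟨p, rfl⟩ := Ideal.Quotient.mk_surjective x
  obtain ⟨q, rfl⟩ := MvPolynomial.map_surjective f hf p
  exact ⟨Ideal.Quotient.mk _ q, kmap_mk f h q⟩

variable [∀ i, NeZero (n i)] [∀ i, NeZero (n' i)]

theorem kmap_kbasis (k : ∀ i, Fin (n i)) :
    kmap f h (kbasis a n k) = coef a' n' (expo n k) • kbasis a' n' (red n' (expo n k)) := by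
  rw [kbasis_apply, kmap_mk, map_monomial, map_one, mk_monomial_eq]

theorem repr_kmap (x : kummer R a n) (l : ∀ i, Fin (n' i)) :
    (kbasis a' n').repr (kmap f h x) l = ∑ k ∈ Finset.univ.filter (fun k : ∀ i, Fin (n i) => red n' (expo n k) = l),
      f ((kbasis a n).repr x k) * coef a' n' (expo n k) := by
  conv_lhs => rw [← (kbasis a n).sum_repr x]
  rw [map_sum, map_sum, Finsupp.finsetSum_apply, Finset.sum_filter]
  refine Finset.sum_congr rfl fun k _ => ?_
  rw [kmap_smul, kmap_kbasis, smul_smul, map_smul, Finsupp.smul_apply, Module.Basis.repr_self,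
    Finsupp.single_apply, smul_eq_mul, mul_ite, mul_one, mul_zero]

end Map

section Kernel

variable {R' : Type w} [CommRing R'] (f : R →+* R') (a : ι → R) (n : ι → ℕ) [∀ i, NeZero (n i)]

omit [Fintype ι] [DecidableEq ι] [∀ i, NeZero (n i)] in
theorem kmap_same_cond (i : ι) : (Ideal.Quotient.mk _ (X i ^ n i) : kummer R' (fun i => f (a i)) n) =
    Ideal.Quotient.mk _ (C (f (a i))) :=
  Ideal.Quotient.eq.mpr (Ideal.subset_span ⟨i, rfl⟩)

theorem repr_mem_ker (x : kummer R a n) (hx : kmap f (kmap_same_cond f a n) x = 0) (k : ∀ i, Fin (n i)) :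
    f ((kbasis a n).repr x k) = 0 := by
  have h := repr_kmap f (kmap_same_cond f a n) x k
  rw [hx, map_zero, Finsupp.zero_apply, Finset.sum_eq_single_of_mem k (by simp [red_expo])] at h
  · rwa [coef_expo, mul_one, eq_comm] at h
  · intro l hl hlk
    exact absurd ((red_expo n l).symm.trans (Finset.mem_filter.mp hl).2) hlk

theorem ker_kmap_le (hker : RingHom.ker f ≤ nilradical R) :
    RingHom.ker (kmap f (kmap_same_cond f a n)) ≤ nilradical (kummer R a n) := by
  intro x hx
  rw [← (kbasis a n).sum_repr x]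
  refine sum_mem fun k _ => ?_
  obtain ⟨p, hp⟩ := Ideal.Quotient.mk_surjective (kbasis a n k)
  rw [← hp, smul_mk]
  exact Ideal.mul_mem_right _ _ (IsNilpotent.map (show IsNilpotent _ from hker (repr_mem_ker f a n x hx k)) _)

end Kernel

variable (a : ι → R) (n : ι → ℕ) [∀ i, NeZero (n i)]

theorem kbasis_mul (j k : ∀ i, Fin (n i)) :
    kbasis a n j * kbasis a n k = coef a n (expo n j + expo n k) • kbasis a n (red n (expo n j + expo n k)) := by
  rw [kbasis_apply, kbasis_apply, ← map_mul, monomial_mul, mul_one, mk_monomial_eq]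

/-- Reducedness: `R` reduced, each `a i` a non zero divisor unless `n i = 1`, and all `n i` invertible. -/
theorem isReduced_kummer [IsReduced R] (ha : ∀ i, n i ≠ 1 → ∀ x, a i * x = 0 → x = 0)
    (hn : ∀ i, IsUnit ((n i : ℕ) : R)) : IsReduced (kummer R a n) := by
  refine ⟨fun x hx => (kbasis a n).repr.map_eq_zero_iff.mp (Finsupp.ext fun k₀ => ?_)⟩
  let l : ∀ i, Fin (n i) := fun i => ⟨(n i - k₀ i) % n i, Nat.mod_lt _ (NeZero.pos (n i))⟩
  have hnil : IsNilpotent (x * kbasis a n l) := (Commute.all _ _).isNilpotent_mul_right hx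
  have ht := (Algebra.isNilpotent_trace_of_isNilpotent (R := R) hnil).eq_zero
  rw [Algebra.trace_eq_matrix_trace (kbasis a n), Matrix.trace] at ht
  simp only [Matrix.diag_apply, Algebra.leftMulMatrix_eq_repr_mul] at ht
  have hterm : ∀ k, (kbasis a n).repr (x * kbasis a n l * kbasis a n k) k =
      (kbasis a n).repr x k₀ * coef a n (expo n k₀ + expo n l) := by
    intro k
    conv_lhs => rw [← (kbasis a n).sum_repr x]
    rw [Finset.sum_mul, Finset.sum_mul, map_sum, Finsupp.finsetSum_apply, Finset.sum_eq_single k₀]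
    · rw [smul_mul_assoc, smul_mul_assoc, map_smul, Finsupp.smul_apply, smul_eq_mul, kbasis_mul, smul_mul_assoc,
        map_smul, Finsupp.smul_apply, smul_eq_mul, kbasis_mul, map_smul, Finsupp.smul_apply, smul_eq_mul,
        Module.Basis.repr_self]
      congr 1
      have h1 : red n (expo n (red n (expo n k₀ + expo n l)) + expo n k) = k := funext fun i => Fin.ext <| by
        show (((k₀ i : ℕ) + (n i - k₀ i) % n i) % n i + (k i : ℕ)) % n i = k i
        have := (k₀ i).2
        rw [Nat.add_mod_mod, Nat.add_sub_cancel' this.le, Nat.mod_self, zero_add, Nat.mod_eq_of_lt (k i).2]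
      have h2 : coef a n (expo n (red n (expo n k₀ + expo n l)) + expo n k) = 1 := by
        refine Finset.prod_eq_one fun i _ => ?_
        show a i ^ ((((k₀ i : ℕ) + (n i - k₀ i) % n i) % n i + (k i : ℕ)) / n i) = 1
        have := (k₀ i).2
        rw [Nat.add_mod_mod, Nat.add_sub_cancel' this.le, Nat.mod_self, zero_add, Nat.div_eq_of_lt (k i).2, pow_zero]
      rw [h1, h2, Finsupp.single_eq_same, mul_one, mul_one]
    · intro j _ hj
      rw [smul_mul_assoc, smul_mul_assoc, map_smul, Finsupp.smul_apply, smul_eq_mul, kbasis_mul, smul_mul_assoc,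
        map_smul, Finsupp.smul_apply, smul_eq_mul, kbasis_mul, map_smul, Finsupp.smul_apply, smul_eq_mul,
        Module.Basis.repr_self, Finsupp.single_eq_of_ne]
      · simp only [mul_zero]
      · intro hk
        refine hj (funext fun i => Fin.ext ?_)
        have h1 : (((j i : ℕ) + (n i - k₀ i) % n i) % n i + (k i : ℕ)) % n i = (k i : ℕ) :=
          congrArg (fun f => ((f i : Fin (n i)) : ℕ)) hk.symm
        rw [Nat.mod_add_mod] at h1
        have h2 : ((j i : ℕ) + (n i - k₀ i) % n i + k i) ≡ (0 + k i) [MOD n i] := by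
          rw [Nat.ModEq, zero_add, Nat.mod_eq_of_lt (k i).2]; exact h1
        have h3 := (Nat.ModEq.add_right_cancel' (k i : ℕ) h2).add_right (k₀ i : ℕ)
        have h4 : ((j i : ℕ) + (n i - k₀ i) % n i + k₀ i) % n i = (j i : ℕ) := by
          rw [add_assoc, ← Nat.add_mod_mod, Nat.mod_add_mod, Nat.sub_add_cancel (k₀ i).2.le, Nat.mod_self,
            add_zero, Nat.mod_eq_of_lt (j i).2]
        rw [Nat.ModEq, h4, zero_add, Nat.mod_eq_of_lt (k₀ i).2] at h3
        exact h3
    · exact fun h => absurd (Finset.mem_univ _) h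
  rw [Finset.sum_congr rfl fun k _ => hterm k, Finset.sum_const, Finset.card_univ, Fintype.card_pi,
    nsmul_eq_mul, Nat.cast_prod] at ht
  have hu : IsUnit (∏ i, ((Fintype.card (Fin (n i)) : ℕ) : R)) :=
    IsUnit.prod_iff.mpr fun i _ => by rw [Fintype.card_fin]; exact hn i
  have ht' := hu.mul_right_eq_zero.mp ht
  rw [mul_comm, coef] at ht'
  revert ht'
  generalize (kbasis a n).repr x k₀ = c
  suffices key : ∀ (s : Finset ι) (c : R), (∏ j ∈ s, a j ^ ((expo n k₀ + expo n l) j / n j)) * c = 0 → c = 0 from
    key Finset.univ c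
  intro s
  induction s using Finset.induction_on with
  | empty => intro c hc; simpa using hc
  | insert i s his ih =>
    intro c hc
    rw [Finset.prod_insert his, mul_assoc] at hc
    refine ih c ?_
    generalize hp : ((∏ j ∈ s, a j ^ ((expo n k₀ + expo n l) j / n j)) * c) = y at hc ⊢
    by_cases hni : n i = 1
    · have h0 : (expo n k₀ + expo n l) i = 0 := by
        have := (k₀ i).2; have := (l i).2
        show (k₀ i : ℕ) + (l i : ℕ) = 0
        omega
      rwa [h0, Nat.zero_div, pow_zero, one_mul] at hc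
    · generalize (expo n k₀ + expo n l) i / n i = m at hc
      induction m with
      | zero => rwa [pow_zero, one_mul] at hc
      | succ m ihm => exact ihm (ha i hni _ (by rwa [pow_succ', mul_assoc] at hc))

/-- the variable `T i` -/
noncomputable abbrev T (i : ι) : kummer R a n := Ideal.Quotient.mk _ (X i)

omit [Fintype ι] [DecidableEq ι] [∀ i, NeZero (n i)] in
theorem T_pow (i : ι) : T a n i ^ n i = algebraMap R _ (a i) := by
  rw [← map_pow]; exact Ideal.Quotient.eq.mpr (Ideal.subset_span ⟨i, rfl⟩)

theorem T_mul_eq_zero (i : ι) (ha : ∀ x, a i * x = 0 → x = 0) {x : kummer R a n} (hx : T a n i * x = 0) :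
    x = 0 := by
  have h : algebraMap R (kummer R a n) (a i) * x = 0 := by
    rw [← T_pow, ← Nat.sub_add_cancel (NeZero.pos (n i)), pow_succ, mul_assoc, hx, mul_zero]
  refine (kbasis a n).repr.map_eq_zero_iff.mp (Finsupp.ext fun k => ha _ ?_)
  obtain ⟨p, rfl⟩ := Ideal.Quotient.mk_surjective x
  rw [← smul_mk] at h
  have := congrArg (fun y => (kbasis a n).repr y k) h
  simpa using this

/-- the divisor `T i = 0` is reduced: squares divisible by `T i` have a divisible root. -/
theorem T_dvd_of_sq (i : ι) [IsReduced (R ⧸ Ideal.span {a i})]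
    (ha : ∀ j, j ≠ i → ∀ x, a j * x ∈ Ideal.span {a i} → x ∈ Ideal.span {a i})
    (hn : ∀ i, IsUnit ((n i : ℕ) : R)) {x : kummer R a n} (hx : T a n i ∣ x ^ 2) : T a n i ∣ x := by
  let q := Ideal.Quotient.mk (Ideal.span {a i})
  let n' : ι → ℕ := fun j => if j = i then 1 else n j
  let a' : ι → R ⧸ Ideal.span {a i} := fun j => q (a j)
  haveI : ∀ j, NeZero (n' j) := fun j => ⟨by simp only [n']; split <;> simp [NeZero.ne (n j)]⟩
  have hai : a' i = 0 := Ideal.Quotient.eq_zero_iff_mem.mpr (Ideal.subset_span rfl)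
  have hTi : T a' n' i = 0 := by
    have := T_pow a' n' i
    simpa [n', hai] using this
  have hcond : ∀ j, (Ideal.Quotient.mk _ (X j ^ n j) : kummer _ a' n') = Ideal.Quotient.mk _ (C (q (a j))) := by
    intro j
    rcases eq_or_ne j i with rfl | hj
    · refine (map_pow _ (X j) (n j)).trans ((congrArg (· ^ n j) hTi).trans ?_)
      show (0 : kummer _ a' n') ^ n j = _
      rw [zero_pow (NeZero.ne _), show q (a j) = 0 from hai, map_zero, map_zero]
    · have := T_pow a' n' j
      simp only [n', if_neg hj] at this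
      rw [map_pow, this]
      rfl
  haveI : IsReduced (kummer _ a' n') := isReduced_kummer a' n' (fun j hj y hy => by
      obtain ⟨y, rfl⟩ := Ideal.Quotient.mk_surjective y
      rw [← map_mul, Ideal.Quotient.eq_zero_iff_mem] at hy
      exact Ideal.Quotient.eq_zero_iff_mem.mpr (ha j (fun h => hj (if_pos h)) y hy))
    (fun j => by
      have hu : IsUnit ((n' j : ℕ) : R) := by
        simp only [n']; split
        · simp
        · exact hn j
      simpa using hu.map q)
  have hq : kmap q hcond x = 0 := by
    obtain ⟨y, hy⟩ := hx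
    refine IsNilpotent.eq_zero ⟨2, ?_⟩
    rw [← map_pow, hy, map_mul, kmap_mk, map_X, show (Ideal.Quotient.mk _ (X i) : kummer _ a' n') = 0 from hTi,
      zero_mul]
  rw [← (kbasis a n).sum_repr x]
  refine Finset.dvd_sum fun k _ => ?_
  obtain ⟨p, hp⟩ := Ideal.Quotient.mk_surjective (kbasis a n k)
  rw [← hp, smul_mk]
  by_cases hk : (k i : ℕ) = 0
  · have h := repr_kmap q hcond x (red n' (expo n k))
    rw [hq, map_zero, Finsupp.zero_apply, Finset.sum_eq_single_of_mem k (by simp)] at h
    · have hc : coef a' n' (expo n k) = 1 := Finset.prod_eq_one fun j _ => by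
        rcases eq_or_ne j i with rfl | hj
        · simp [hk]
        · rw [expo_apply, Nat.div_eq_of_lt (by simp only [n', if_neg hj]; exact (k j).2), pow_zero]
      rw [hc, mul_one, eq_comm, Ideal.Quotient.eq_zero_iff_mem, Ideal.mem_span_singleton] at h
      obtain ⟨d, hd⟩ := h
      rw [hd, map_mul, ← T_pow a n i]
      exact Dvd.dvd.mul_right (Dvd.dvd.mul_right (dvd_pow_self _ (NeZero.ne (n i))) _) _
    · intro l hl hlk
      have hr := (Finset.mem_filter.mp hl).2
      have hli : (l i : ℕ) ≠ 0 := fun h0 => hlk <| funext fun j => Fin.ext <| by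
        rcases eq_or_ne j i with rfl | hj
        · rw [h0, hk]
        · have hj' : (l j : ℕ) % n' j = (k j : ℕ) % n' j := congrArg (fun f => ((f j : Fin (n' j)) : ℕ)) hr
          have hnj : n' j = n j := if_neg hj
          rwa [hnj, Nat.mod_eq_of_lt (l j).2, Nat.mod_eq_of_lt (k j).2] at hj'
      have hc : coef a' n' (expo n l) = 0 := Finset.prod_eq_zero (Finset.mem_univ i) <| by
        simp [n', hai, hli]
      rw [hc, mul_zero]
  · refine Dvd.dvd.mul_left ?_ _
    rw [hp, kbasis_apply]
    refine map_dvd _ ?_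
    rw [X_dvd_monomial]
    exact Or.inr hk

/-- A Kummer algebra over a local ring, all `a i` in the maximal ideal, is local. -/
theorem isLocalRing_kummer [IsLocalRing R] (ha : ∀ i, a i ∈ IsLocalRing.maximalIdeal R) :
    IsLocalRing (kummer R a n) := by
  haveI : Module.Finite R (kummer R a n) := Module.Finite.of_basis (kbasis a n)
  haveI : Nontrivial (kummer R a n) := (kbasis a n).repr.toEquiv.nontrivial
  obtain ⟨M, hM⟩ := Ideal.exists_maximal (kummer R a n)
  have key : ∀ (Q : Ideal (kummer R a n)), Q.IsMaximal → ∀ p : MvPolynomial ι R,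
      (Ideal.Quotient.mk _ p ∈ Q ↔ constantCoeff p ∈ IsLocalRing.maximalIdeal R) := by
    intro Q hQ p
    haveI := hQ
    have hcomap : Q.comap (algebraMap R (kummer R a n)) = IsLocalRing.maximalIdeal R :=
      IsLocalRing.eq_maximalIdeal (Ideal.isMaximal_comap_of_isIntegral_of_isMaximal Q)
    have hT : ∀ i, T a n i ∈ Q := fun i => hQ.isPrime.mem_of_pow_mem (n i) <| by
      rw [T_pow, ← Ideal.mem_comap, hcomap]; exact ha i
    have hd : Ideal.Quotient.mk _ (p - C (constantCoeff p)) ∈ Q := by
      induction p using MvPolynomial.induction_on' with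
      | monomial m c =>
        by_cases hm : m = 0
        · subst hm; simp [constantCoeff_monomial]
        · obtain ⟨j, hj⟩ := Finsupp.ne_iff.mp hm
          rw [constantCoeff_monomial, if_neg hm, map_zero, sub_zero]
          obtain ⟨d, hd⟩ : (X j : MvPolynomial ι R) ∣ monomial m c := X_dvd_monomial.mpr (Or.inr hj)
          rw [hd, map_mul]
          exact Q.mul_mem_right _ (hT j)
      | add p q hp hq =>
        rw [map_add, map_add, add_sub_add_comm, map_add]
        exact add_mem hp hq
    rw [map_sub] at hd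
    rw [← hcomap, Ideal.mem_comap]
    exact ⟨fun h => (Submodule.sub_mem_iff_right _ h).mp hd, fun h => (Submodule.sub_mem_iff_left _ h).mp hd⟩
  refine IsLocalRing.of_unique_max_ideal ⟨M, hM, fun Q hQ => Ideal.ext fun y => ?_⟩
  obtain ⟨p, rfl⟩ := Ideal.Quotient.mk_surjective y
  exact (key Q hQ p).trans (key M hM p).symm

/-- A local Kummer algebra with reduced branch divisors has no idempotent in the localisation at `∏ T i`. -/
theorem eq_zero_or_one_of_sq [IsLocalRing R] (ha : ∀ i, a i ∈ IsLocalRing.maximalIdeal R)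
    (hn : ∀ i, IsUnit ((n i : ℕ) : R)) (hnzd : ∀ i, ∀ x, a i * x = 0 → x = 0)
    (hred : ∀ i, IsReduced (R ⧸ Ideal.span {a i}))
    (hmod : ∀ i j, j ≠ i → ∀ x, a j * x ∈ Ideal.span {a i} → x ∈ Ideal.span {a i})
    (N : ι → ℕ) (b : kummer R a n) (hb : b ^ 2 = (∏ i, T a n i ^ N i) * b) :
    b = 0 ∨ b = ∏ i, T a n i ^ N i := by
  haveI := isLocalRing_kummer a n ha
  induction hs : ∑ i, N i using Nat.strong_induction_on generalizing N b with
  | _ s ih =>
  by_cases h0 : ∀ i, N i = 0
  · have h1 : ∏ i, T a n i ^ N i = 1 := Finset.prod_eq_one fun i _ => by rw [h0 i, pow_zero]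
    rw [h1, one_mul, pow_two] at hb
    rw [h1]
    rcases IsLocalRing.isUnit_or_isUnit_one_sub_self b with hu | hu
    · exact Or.inr (hu.mul_left_cancel (hb.trans (mul_one b).symm))
    · exact Or.inl (hu.mul_left_cancel (show (1 - b) * b = (1 - b) * 0 by rw [sub_mul, one_mul, hb, sub_self, mul_zero]))
  · push Not at h0
    obtain ⟨i, hi⟩ := h0
    haveI := hred i
    let N' : ι → ℕ := Function.update N i (N i - 1)
    have hN : ∏ j, T a n j ^ N j = T a n i * ∏ j, T a n j ^ N' j := by
      rw [Finset.prod_eq_mul_prod_sdiff_singleton_of_mem (Finset.mem_univ i),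
        Finset.prod_eq_mul_prod_sdiff_singleton_of_mem (Finset.mem_univ i) fun j => T a n j ^ N' j, ← mul_assoc]
      congr 1
      · simp only [N', Function.update_self]
        rw [← pow_succ', Nat.sub_add_cancel (Nat.pos_of_ne_zero hi)]
      · refine Finset.prod_congr rfl fun j hj => ?_
        simp only [N']
        rw [Function.update_of_ne (by simpa using hj)]
    obtain ⟨c, rfl⟩ : T a n i ∣ b := T_dvd_of_sq a n i (hmod i) hn (hb ▸ (hN ▸ (Dvd.dvd.mul_right (dvd_mul_right _ _) _)))
    have hc : c ^ 2 = (∏ j, T a n j ^ N' j) * c := by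
      rw [← sub_eq_zero]
      refine T_mul_eq_zero a n i (hnzd i) (T_mul_eq_zero a n i (hnzd i) ?_)
      rw [hN] at hb
      linear_combination hb
    have hlt : ∑ j, N' j < s := hs ▸ Finset.sum_lt_sum
      (fun j _ => by
        rcases eq_or_ne j i with rfl | hj
        · simp [N']
        · simp [N', Function.update_of_ne hj])
      ⟨i, Finset.mem_univ i, by simp [N']; omega⟩
    rcases ih _ hlt N' c hc rfl with rfl | rfl
    · exact Or.inl (mul_zero _)
    · exact Or.inr hN.symm

/-- `t = ∏ T i` -/
noncomputable abbrev tt : kummer R a n := ∏ i, T a n i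

open PrimeSpectrum in
theorem isConnected_basicOpen_reduced [IsLocalRing R] (ha : ∀ i, a i ∈ IsLocalRing.maximalIdeal R)
    (hn : ∀ i, IsUnit ((n i : ℕ) : R)) (hnzd : ∀ i, ∀ x, a i * x = 0 → x = 0)
    (hred : ∀ i, IsReduced (R ⧸ Ideal.span {a i}))
    (hmod : ∀ i j, j ≠ i → ∀ x, a j * x ∈ Ideal.span {a i} → x ∈ Ideal.span {a i}) :
    IsConnected (basicOpen (tt a n) : Set (PrimeSpectrum (kummer R a n))) := by
  haveI : Nontrivial (kummer R a n) := (kbasis a n).repr.toEquiv.nontrivial
  let L := Localization.Away (tt a n)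
  have hnz : ∀ x, tt a n * x = 0 → x = 0 := by
    have : ∀ (s : Finset ι) (x : kummer R a n), (∏ i ∈ s, T a n i) * x = 0 → x = 0 := by
      intro s
      induction s using Finset.induction_on with
      | empty => intro x hx; simpa using hx
      | insert i s his ih =>
        intro x hx
        rw [Finset.prod_insert his, mul_assoc] at hx
        exact ih x (T_mul_eq_zero a n i (hnzd i) hx)
    exact this Finset.univ
  have hpow : ∀ (m : ℕ) x, tt a n ^ m * x = 0 → x = 0 := by
    intro m
    induction m with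
    | zero => intro x hx; simpa using hx
    | succ m ihm => intro x hx; exact hnz x (ihm _ (by rwa [pow_succ, mul_assoc] at hx))
  have hinj : Function.Injective (algebraMap (kummer R a n) L) :=
    IsLocalization.injective (M := Submonoid.powers (tt a n)) L fun y ⟨m, hm⟩ => by
      subst hm
      exact mem_nonZeroDivisors_iff_right.mpr fun x hx => hpow m x (by rwa [mul_comm])
  haveI : Nontrivial L := hinj.nontrivial
  have hidem : ∀ e : L, IsIdempotentElem e → e = 0 ∨ e = 1 := by
    intro e he
    obtain ⟨b, ⟨_, m, rfl⟩, rfl⟩ := IsLocalization.exists_mk'_eq (Submonoid.powers (tt a n)) e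
    rw [IsIdempotentElem, ← IsLocalization.mk'_mul, IsLocalization.mk'_eq_iff_eq] at he
    have h2 := hinj he
    simp only [Submonoid.coe_mul] at h2
    have h3 : b ^ 2 = (∏ i, T a n i ^ (fun _ => m) i) * b := by
      rw [Finset.prod_pow, ← sub_eq_zero]
      refine hpow m _ ?_
      linear_combination h2
    rcases eq_zero_or_one_of_sq a n ha hn hnzd hred hmod _ b h3 with rfl | rfl
    · exact Or.inl (IsLocalization.mk'_zero _)
    · refine Or.inr ?_
      rw [IsLocalization.mk'_eq_iff_eq_mul, one_mul, Finset.prod_pow]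
  haveI : PreconnectedSpace (PrimeSpectrum L) := by
    rw [preconnectedSpace_iff_clopen]
    intro s hs
    obtain ⟨e, he, rfl⟩ := PrimeSpectrum.isClopen_iff.mp hs
    rcases hidem e he with rfl | rfl <;> simp
  haveI : ConnectedSpace (PrimeSpectrum L) := { toNonempty := inferInstance }
  rw [← localization_away_comap_range L (tt a n)]
  exact isConnected_range (continuous_comap _)

open PrimeSpectrum in
/-- The unramified locus of a Kummer algebra over a local ring is connected, when the branch divisors are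
reduced modulo nilpotents. -/
theorem isConnected_basicOpen [IsLocalRing R] {R' : Type u} [CommRing R'] (f : R →+* R')
    (hf : Function.Surjective f) (hker : RingHom.ker f ≤ nilradical R)
    (ha : ∀ i, a i ∈ IsLocalRing.maximalIdeal R)
    (hn : ∀ i, IsUnit ((n i : ℕ) : R)) (hnzd : ∀ i, ∀ x, f (a i) * x = 0 → x = 0)
    (hred : ∀ i, IsReduced (R' ⧸ Ideal.span {f (a i)}))
    (hmod : ∀ i j, j ≠ i → ∀ x, f (a j) * x ∈ Ideal.span {f (a i)} → x ∈ Ideal.span {f (a i)}) :
    IsConnected (basicOpen (tt a n) : Set (PrimeSpectrum (kummer R a n))) := by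
  haveI : Nontrivial R' := ⟨⟨1, 0, fun h => by
    have h1 : f 1 = 0 := by rw [map_one, h]
    obtain ⟨k, hk⟩ := hker h1
    rw [one_pow] at hk
    exact one_ne_zero hk⟩⟩
  haveI : IsLocalRing R' := IsLocalRing.of_surjective' f hf
  haveI : IsLocalHom f := IsLocalHom.of_surjective f hf
  have h := isConnected_basicOpen_reduced (fun i => f (a i)) n
    (fun i => by
      rw [IsLocalRing.mem_maximalIdeal, mem_nonunits_iff]
      exact fun hu => (IsLocalRing.mem_maximalIdeal _).mp (ha i) (IsUnit.of_map f _ hu))
    (fun i => by simpa using (hn i).map f) hnzd hred hmod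
  let F := kmap f (kmap_same_cond f a n)
  have hF : Function.Surjective F := kmap_surjective f _ hf
  have hom := PrimeSpectrum.isHomeomorph_comap F
    (fun x => ⟨1, one_pos, by rw [pow_one]; exact hF x⟩) (ker_kmap_le f a n hker)
  have hFt : F (tt a n) = tt (fun i => f (a i)) n := by
    rw [map_prod]
    exact Finset.prod_congr rfl fun i _ => (kmap_mk f _ _).trans (congrArg _ (map_X f i))
  have himg : PrimeSpectrum.comap F '' (basicOpen (tt (fun i => f (a i)) n) : Set _) =
      (basicOpen (tt a n) : Set (PrimeSpectrum (kummer R a n))) := by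
    rw [← hFt, ← comap_basicOpen, TopologicalSpace.Opens.coe_comap]
    exact Set.image_preimage_eq _ hom.surjective
  rw [← himg]
  exact h.image _ hom.continuous.continuousOn

end Groth.Agent.EtRamLib.Kummer.Basis
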