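import Groth.Agent.EtRamLib.Kummer.KummerEtale
import Groth.Prelude.Def_SGA1t
import Groth.Prelude.Def_PiSp
import Mathlib.AlgebraicGeometry.Morphisms.Finite
import Mathlib.AlgebraicGeometry.Morphisms.Etale
import Mathlib.RingTheory.RootsOfUnity.PrimitiveRoots
import Mathlib.RingTheory.Henselian
import Mathlib.FieldTheory.IsSepClosed

/-! The Kummer cover of the complement of the divisor `∏ a i = 0` and its automorphisms. -/

set_option autoImplicit false

universe u

namespace Groth.Agent.EtRamLib.Kummer.Cover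

open CategoryTheory CategoryTheory.Limits AlgebraicGeometry SGA1t Groth.Agent.EtRamLib.Kummer.Basis

variable {R : Type u} [CommRing R] {ι : Type} [Fintype ι] [DecidableEq ι] (a : ι → R) (n : ι → ℕ)
  [∀ i, NeZero (n i)]

/-- the structure map -/
noncomputable abbrev π : Spec (CommRingCat.of (kummer R a n)) ⟶ Spec (CommRingCat.of R) :=
  Spec.map (CommRingCat.ofHom (algebraMap R (kummer R a n)))

/-- the complement of the divisor -/
noncomputable abbrev U₀ : (Spec (CommRingCat.of R)).Opens := PrimeSpectrum.basicOpen (∏ i, a i)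

theorem preimage_U₀ : (π a n) ⁻¹ᵁ U₀ a =
    (PrimeSpectrum.basicOpen (tt a n) : (Spec (CommRingCat.of (kummer R a n))).Opens) := by
  ext p
  change algebraMap R (kummer R a n) (∏ i, a i) ∉ (p : PrimeSpectrum (kummer R a n)).asIdeal ↔
    tt a n ∉ (p : PrimeSpectrum (kummer R a n)).asIdeal
  rw [map_prod, not_iff_not, Ideal.IsPrime.prod_mem_iff, tt, Ideal.IsPrime.prod_mem_iff]
  refine exists_congr fun i => and_congr_right fun _ => ?_
  rw [← T_pow a n i]
  exact (PrimeSpectrum.isPrime p).pow_mem_iff_mem _ (NeZero.pos (n i))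

instance isFinite_π : IsFinite (π a n) := by
  rw [IsFinite.SpecMap_iff]
  haveI : Module.Finite R (kummer R a n) := Module.Finite.of_basis (kbasis a n)
  exact RingHom.finite_algebraMap.mpr inferInstance

theorem etale_ι_π (hn : ∀ i, IsUnit ((n i : ℕ) : R)) :
    Etale (Scheme.Opens.ι (X := Spec (CommRingCat.of (kummer R a n))) (PrimeSpectrum.basicOpen (tt a n)) ≫ π a n) := by
  have h : Etale (Spec.map (CommRingCat.ofHom (algebraMap R (Localization.Away (tt a n))))) := by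
    rw [HasRingHomProperty.Spec_iff (P := @Etale)]
    haveI := etale_away a n hn
    exact RingHom.etale_algebraMap.mpr inferInstance
  have e := basicOpenIsoSpecAway_hom_SpecMap (R := CommRingCat.of (kummer R a n)) (tt a n)
  have e2 : Spec.map (CommRingCat.ofHom (algebraMap (kummer R a n) (Localization.Away (tt a n)))) ≫ π a n =
      Spec.map (CommRingCat.ofHom (algebraMap R (Localization.Away (tt a n)))) := by
    rw [← Spec.map_comp, ← CommRingCat.ofHom_comp, ← IsScalarTower.algebraMap_eq]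
  have h' := MorphismProperty.comp_mem @Etale (basicOpenIsoSpecAway (R := CommRingCat.of (kummer R a n)) (tt a n)).hom
    _ inferInstance h
  have e3 := ((congrArg (· ≫ π a n) e).symm.trans ((Category.assoc _ _ _).trans (congrArg (_ ≫ ·) e2)))
  exact e3.symm ▸ h' 

theorem etale_restrict (hn : ∀ i, IsUnit ((n i : ℕ) : R)) (U : (Spec (CommRingCat.of R)).Opens)
    (hU : U = U₀ a) : Etale (π a n ∣_ U) := by
  subst hU
  have h : Etale (((π a n) ⁻¹ᵁ U₀ a).ι ≫ π a n) := by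
    rw [preimage_U₀]; exact etale_ι_π a n hn
  rw [← morphismRestrict_ι] at h
  exact Etale.of_comp _ (U₀ a).ι

theorem connectedSpace_preimage (hc : _root_.IsConnected (PrimeSpectrum.basicOpen (tt a n) : Set (PrimeSpectrum (kummer R a n))))
    (U : (Spec (CommRingCat.of R)).Opens) (hU : U = U₀ a) : ConnectedSpace ↥((π a n) ⁻¹ᵁ U) := by
  subst hU
  rw [preimage_U₀]
  exact isConnected_iff_connectedSpace.mp hc

omit [Fintype ι] [DecidableEq ι] [∀ i, NeZero (n i)] in
theorem twist_mk_X (ζ : ∀ i, rootsOfUnity (n i) R) (i : ι) :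
    kummerTwist R a n ζ (T a n i) = algebraMap R _ (((ζ i : Rˣ) : R)) * T a n i := by
  show Ideal.Quotient.mk _ (MvPolynomial.aeval (R := R) _ (MvPolynomial.X i)) = _
  rw [MvPolynomial.aeval_X, map_mul]
  rfl

omit [Fintype ι] [DecidableEq ι] [∀ i, NeZero (n i)] in
theorem twist_algebraMap (ζ : ∀ i, rootsOfUnity (n i) R) (r : R) :
    kummerTwist R a n ζ (algebraMap R _ r) = algebraMap R _ r := by
  show Ideal.Quotient.mk _ (MvPolynomial.aeval (R := R) _ (MvPolynomial.C r)) = _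
  rw [MvPolynomial.aeval_C]
  rfl

omit [Fintype ι] [DecidableEq ι] [∀ i, NeZero (n i)] in
theorem kummer_hom_ext {C : Type u} [CommRing C] {g h : kummer R a n →+* C}
    (h0 : g.comp (algebraMap R _) = h.comp (algebraMap R _)) (hT : ∀ i, g (T a n i) = h (T a n i)) : g = h :=
  Ideal.Quotient.ringHom_ext (MvPolynomial.ringHom_ext (fun r => congr($h0 r)) hT)

omit [Fintype ι] [DecidableEq ι] [∀ i, NeZero (n i)] in
theorem twist_mul (ζ η : ∀ i, rootsOfUnity (n i) R) :
    kummerTwist R a n (ζ * η) = (kummerTwist R a n η).comp (kummerTwist R a n ζ) := by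
  refine kummer_hom_ext a n (RingHom.ext fun r => ?_) fun i => ?_
  · simp only [RingHom.comp_apply, twist_algebraMap]
  · simp only [RingHom.comp_apply, twist_mk_X, map_mul, twist_algebraMap, Pi.mul_apply, Subgroup.coe_mul,
      Units.val_mul]
    ring

omit [Fintype ι] [DecidableEq ι] [∀ i, NeZero (n i)] in
theorem twist_one : kummerTwist R a n 1 = RingHom.id _ := by
  refine kummer_hom_ext a n (RingHom.ext fun r => twist_algebraMap a n 1 r) fun i => ?_
  simp [twist_mk_X]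

variable (U : (Spec (CommRingCat.of R)).Opens)

omit [Fintype ι] [DecidableEq ι] [∀ i, NeZero (n i)] in
theorem specTwist_π (ζ : ∀ i, rootsOfUnity (n i) R) :
    Spec.map (CommRingCat.ofHom (kummerTwist R a n ζ)) ≫ π a n = π a n := by
  rw [← Spec.map_comp, ← CommRingCat.ofHom_comp]
  congr 2
  exact RingHom.ext (twist_algebraMap a n ζ)

/-- the twist on the part over `U` -/
noncomputable def twistU (ζ : ∀ i, rootsOfUnity (n i) R) :
    ((π a n) ⁻¹ᵁ U).toScheme ⟶ ((π a n) ⁻¹ᵁ U).toScheme :=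
  (isPullback_morphismRestrict (π a n) U).lift (π a n ∣_ U)
    (((π a n) ⁻¹ᵁ U).ι ≫ Spec.map (CommRingCat.ofHom (kummerTwist R a n ζ)))
    (by rw [Category.assoc, specTwist_π, morphismRestrict_ι])

omit [Fintype ι] [DecidableEq ι] [∀ i, NeZero (n i)] in
theorem twistU_π (ζ : ∀ i, rootsOfUnity (n i) R) : twistU a n U ζ ≫ (π a n ∣_ U) = π a n ∣_ U :=
  IsPullback.lift_fst _ _ _ _

omit [Fintype ι] [DecidableEq ι] [∀ i, NeZero (n i)] in
theorem twistU_ι (ζ : ∀ i, rootsOfUnity (n i) R) : twistU a n U ζ ≫ ((π a n) ⁻¹ᵁ U).ι =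
    ((π a n) ⁻¹ᵁ U).ι ≫ Spec.map (CommRingCat.ofHom (kummerTwist R a n ζ)) :=
  IsPullback.lift_snd _ _ _ _

omit [Fintype ι] [DecidableEq ι] [∀ i, NeZero (n i)] in
theorem twistU_one : twistU a n U 1 = 𝟙 _ := by
  rw [← cancel_mono ((π a n) ⁻¹ᵁ U).ι, twistU_ι, twist_one, Category.id_comp]
  simp

omit [Fintype ι] [DecidableEq ι] [∀ i, NeZero (n i)] in
theorem twistU_mul (ζ η : ∀ i, rootsOfUnity (n i) R) :
    twistU a n U (ζ * η) = twistU a n U η ≫ twistU a n U ζ := by
  rw [← cancel_mono ((π a n) ⁻¹ᵁ U).ι, Category.assoc, twistU_ι, twistU_ι, ← Category.assoc, twistU_ι,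
    Category.assoc, ← Spec.map_comp, ← CommRingCat.ofHom_comp, twist_mul]

variable [hF : IsFinite (π a n ∣_ U)] [hE : Etale (π a n ∣_ U)]

/-- the cover -/
noncomputable abbrev Z : FEt.Cat (U : Scheme.{u}) := MorphismProperty.Over.mk ⊤ (π a n ∣_ U) ⟨hF, hE⟩

/-- the twist as a morphism of covers -/
noncomputable def twistHom (ζ : ∀ i, rootsOfUnity (n i) R) : Z a n U ⟶ Z a n U :=
  MorphismProperty.Over.homMk (twistU a n U ζ) (twistU_π a n U ζ)

omit [Fintype ι] [DecidableEq ι] [∀ i, NeZero (n i)] in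
theorem twistHom_comp (ζ η : ∀ i, rootsOfUnity (n i) R) :
    twistHom a n U ζ ≫ twistHom a n U η = twistHom a n U (η * ζ) :=
  MorphismProperty.Over.Hom.ext (twistU_mul a n U η ζ).symm

omit [Fintype ι] [DecidableEq ι] [∀ i, NeZero (n i)] in
theorem twistHom_one : twistHom a n U 1 = 𝟙 _ := MorphismProperty.Over.Hom.ext (twistU_one a n U)

/-- the action of the roots of unity -/
noncomputable def θ : (∀ i, rootsOfUnity (n i) R) →* Aut (Z a n U) where
  toFun ζ := ⟨twistHom a n U ζ, twistHom a n U ζ⁻¹,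
    by rw [twistHom_comp, inv_mul_cancel, twistHom_one], by rw [twistHom_comp, mul_inv_cancel, twistHom_one]⟩
  map_one' := Iso.ext (twistHom_one a n U)
  map_mul' ζ η := Iso.ext (twistHom_comp a n U η ζ).symm

omit [Fintype ι] [DecidableEq ι] [∀ i, NeZero (n i)] in
theorem θ_left_ι (ζ : ∀ i, rootsOfUnity (n i) R) :
    (θ a n U ζ).hom.left ≫ ((π a n) ⁻¹ᵁ U).ι =
      ((π a n) ⁻¹ᵁ U).ι ≫ Spec.map (CommRingCat.ofHom (kummerTwist R a n ζ)) := twistU_ι a n U ζ

theorem exists_ringHom (hU : U = U₀ a) {Ω : Type u} [Field Ω]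
    (s : Spec (CommRingCat.of Ω) ⟶ ((π a n) ⁻¹ᵁ U).toScheme) :
    ∃ ψ : kummer R a n →+* Ω, (∀ i, ψ (T a n i) ≠ 0) ∧
      Spec.map (CommRingCat.ofHom ψ) = s ≫ ((π a n) ⁻¹ᵁ U).ι := by
  obtain ⟨ψ, hψ⟩ := Spec.map_surjective (s ≫ ((π a n) ⁻¹ᵁ U).ι)
  refine ⟨ψ.hom, fun i h0 => ?_, hψ⟩
  have hmem : Spec.map ψ (IsLocalRing.closedPoint Ω) ∈ (π a n) ⁻¹ᵁ U := by
    rw [hψ]; exact (s (IsLocalRing.closedPoint Ω)).2
  rw [hU, preimage_U₀] at hmem
  refine hmem (show ψ.hom (tt a n) ∈ IsLocalRing.maximalIdeal Ω from ?_)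
  rw [map_prod, Finset.prod_eq_zero (Finset.mem_univ i) h0]
  exact zero_mem _

/-- Two points over the same point of the base differ by a root of unity. -/
theorem transitive (hU : U = U₀ a) {Ω : Type u} [Field Ω]
    (hμ : ∀ (g : R →+* Ω) (i : ι) (x : Ω), x ^ n i = 1 → ∃ ζ : rootsOfUnity (n i) R, g ((ζ : Rˣ) : R) = x)
    (ξ : Spec (CommRingCat.of Ω) ⟶ (U : Scheme.{u})) (s t : FEt.fiberObj ξ (Z a n U)) :
    ∃ ζ, (FEt.fiber ξ).map (θ a n U ζ).hom s = t := by
  obtain ⟨ψ, hψ0, hψ⟩ := exists_ringHom a n U hU s.1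
  obtain ⟨χ, -, hχ⟩ := exists_ringHom a n U hU t.1
  have hR : χ.comp (algebraMap R _) = ψ.comp (algebraMap R _) := by
    have e : ∀ (v : FEt.fiberObj ξ (Z a n U)) (ρ : kummer R a n →+* Ω),
        Spec.map (CommRingCat.ofHom ρ) = v.1 ≫ ((π a n) ⁻¹ᵁ U).ι →
        Spec.map (CommRingCat.ofHom (ρ.comp (algebraMap R _))) = ξ ≫ U.ι := by
      intro v ρ hρ
      rw [CommRingCat.ofHom_comp, Spec.map_comp, hρ]
      exact (Category.assoc _ _ _).trans ((congrArg (v.1 ≫ ·) (morphismRestrict_ι (π a n) U).symm).trans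
        ((Category.assoc _ _ _).symm.trans (congrArg (· ≫ U.ι) v.2)))
    exact congrArg CommRingCat.Hom.hom (Spec.map_injective ((e t χ hχ).trans (e s ψ hψ).symm))
  have hex : ∀ i, ∃ ζ : rootsOfUnity (n i) R,
      ψ (algebraMap R _ ((ζ : Rˣ) : R)) = χ (T a n i) / ψ (T a n i) := by
    intro i
    refine hμ (ψ.comp (algebraMap R _)) i _ ?_
    rw [div_pow, div_eq_one_iff_eq (pow_ne_zero _ (hψ0 i))]
    exact (map_pow χ _ _).symm.trans ((congrArg χ (T_pow a n i)).trans ((congr($hR (a i))).trans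
      ((congrArg ψ (T_pow a n i)).symm.trans (map_pow ψ _ _))))
  choose ζ hζ using hex
  refine ⟨ζ, Subtype.ext ?_⟩
  apply (cancel_mono ((π a n) ⁻¹ᵁ U).ι).1
  refine ((Category.assoc _ _ _).trans ((congrArg (s.1 ≫ ·) (twistU_ι a n U ζ)).trans
    ((Category.assoc _ _ _).symm.trans ((congrArg (· ≫ _) hψ.symm).trans ?_)))).trans hχ
  rw [← Spec.map_comp, ← CommRingCat.ofHom_comp]
  congr 2
  refine kummer_hom_ext a n ?_ fun i => ?_
  · exact (RingHom.ext fun r => by simp [twist_algebraMap]).trans hR.symm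
  · rw [RingHom.comp_apply, twist_mk_X, map_mul, hζ i, div_mul_cancel₀ _ (hψ0 i)]

/-- The stabiliser of a point is trivial. -/
theorem free (hU : U = U₀ a) {Ω : Type u} [Field Ω]
    (hμ : ∀ (g : R →+* Ω) (i : ι) (ζ : rootsOfUnity (n i) R), g ((ζ : Rˣ) : R) = 1 → ζ = 1)
    (ξ : Spec (CommRingCat.of Ω) ⟶ (U : Scheme.{u})) (s : FEt.fiberObj ξ (Z a n U))
    (ζ : ∀ i, rootsOfUnity (n i) R) (h : (FEt.fiber ξ).map (θ a n U ζ).hom s = s) : ζ = 1 := by
  obtain ⟨ψ, hψ0, hψ⟩ := exists_ringHom a n U hU s.1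
  have h1 : Spec.map (CommRingCat.ofHom (ψ.comp (kummerTwist R a n ζ))) = Spec.map (CommRingCat.ofHom ψ) := by
    rw [CommRingCat.ofHom_comp, Spec.map_comp, hψ]
    exact (Category.assoc _ _ _).trans ((congrArg (s.1 ≫ ·) (twistU_ι a n U ζ).symm).trans
      ((Category.assoc _ _ _).symm.trans (congrArg (· ≫ ((π a n) ⁻¹ᵁ U).ι) (congrArg Subtype.val h))))
  have h2 := congrArg CommRingCat.Hom.hom (Spec.map_injective h1)
  funext i
  refine hμ (ψ.comp (algebraMap R _)) i (ζ i) ?_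
  have h3 : (ψ.comp (kummerTwist R a n ζ)) (T a n i) = ψ (T a n i) := congr($h2 (T a n i))
  rw [RingHom.comp_apply, twist_mk_X, map_mul] at h3
  exact mul_eq_right₀ (hψ0 i) |>.mp h3

end Groth.Agent.EtRamLib.Kummer.Cover
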