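import Groth.Agent.EtRamLib.Kummer.Cover
import Groth.Agent.EtRamLib.Kummer.ChartConn
import Mathlib.RingTheory.RootsOfUnity.Basic
import Mathlib.FieldTheory.Separable
import Mathlib.RingTheory.RootsOfUnity.AlgebraicallyClosed
import Mathlib.AlgebraicGeometry.Morphisms.Separated

/-! Roots of unity in strictly henselian rings, rigidity at a geometric point, and the complement of the divisor in
a local scheme. -/

set_option autoImplicit false

universe u

namespace Groth.Agent.EtRamLib.Kummer.Cover

open CategoryTheory CategoryTheory.Limits AlgebraicGeometry SGA1t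

theorem eq_one_of_map_eq_one {R : Type u} [CommRing R] [IsLocalRing R] {n : ℕ} (hn : IsUnit (n : R)) {Ω : Type u}
    [Field Ω] (g : R →+* Ω) (ζ : rootsOfUnity n R) (h : g ((ζ : Rˣ) : R) = 1) : ζ = 1 := by
  let z : R := ((ζ : Rˣ) : R)
  have hz : z ^ n = 1 := by
    simpa [z] using congrArg Units.val ((mem_rootsOfUnity n (ζ : Rˣ)).mp ζ.2)
  have hm : z - 1 ∈ IsLocalRing.maximalIdeal R := by
    rw [IsLocalRing.mem_maximalIdeal, mem_nonunits_iff]
    exact fun hu => by simpa [z, h] using hu.map g
  have hu : IsUnit (∑ i ∈ Finset.range n, z ^ i) := by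
    have : IsUnit (IsLocalRing.residue R (∑ i ∈ Finset.range n, z ^ i)) := by
      have h1 : IsLocalRing.residue R z = 1 := by
        have := (IsLocalRing.residue_eq_zero_iff _).mpr hm
        rwa [map_sub, map_one, sub_eq_zero] at this
      simpa [map_sum, h1] using hn.map (IsLocalRing.residue R)
    exact IsUnit.of_map (IsLocalRing.residue R) _ this
  have h0 : (z - 1) * ∑ i ∈ Finset.range n, z ^ i = 0 := by rw [mul_geom_sum, hz, sub_self]
  have h1 : z = 1 := sub_eq_zero.mp (hu.mul_left_eq_zero.mp h0)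
  exact Subtype.ext (Units.ext h1)

theorem exists_map_eq {R : Type u} [CommRing R] [HenselianLocalRing R] [IsSepClosed (IsLocalRing.ResidueField R)]
    {n : ℕ} (hn : IsUnit (n : R)) {Ω : Type u} [Field Ω] (g : R →+* Ω) (x : Ω) (hx : x ^ n = 1) :
    ∃ ζ : rootsOfUnity n R, g ((ζ : Rˣ) : R) = x := by
  classical
  have hn0 : 0 < n := by
    rcases Nat.eq_zero_or_pos n with rfl | h
    · simp at hn
    · exact h
  haveI : NeZero n := ⟨hn0.ne'⟩
  let F : Polynomial R := Polynomial.X ^ n - Polynomial.C 1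
  have hF : F.Monic := Polynomial.monic_X_pow_sub_C 1 hn0.ne'
  let k := IsLocalRing.ResidueField R
  haveI : IsSepClosed k := ‹_›
  haveI : NeZero ((n : ℕ) : k) := ⟨by simpa using (hn.map (IsLocalRing.residue R)).ne_zero⟩
  have hsep : ((Polynomial.X : Polynomial k) ^ n - Polynomial.C 1).Separable :=
    Polynomial.separable_X_pow_sub_C 1 (NeZero.ne _) one_ne_zero
  haveI : HasEnoughRootsOfUnity k n := inferInstance
  have hcard : Nat.card (rootsOfUnity n k) = n := HasEnoughRootsOfUnity.natCard_rootsOfUnity k n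
  have hlift : ∀ z : rootsOfUnity n k, ∃ ζ : rootsOfUnity n R, IsLocalRing.residue R ((ζ : Rˣ) : R) = ((z : kˣ) : k) := by
    intro z
    obtain ⟨z₀, hz₀⟩ := Ideal.Quotient.mk_surjective ((z : kˣ) : k)
    have hzn : ((z : kˣ) : k) ^ n = 1 := by
      simpa using congrArg Units.val ((mem_rootsOfUnity n (z : kˣ)).mp z.2)
    have h1 : F.eval z₀ ∈ IsLocalRing.maximalIdeal R := by
      rw [← IsLocalRing.residue_eq_zero_iff]
      have : IsLocalRing.residue R z₀ = ((z : kˣ) : k) := hz₀
      simp [F, this, hzn]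
    have h2 : IsUnit (F.derivative.eval z₀) := by
      refine IsUnit.of_map (IsLocalRing.residue R) _ ?_
      have : IsLocalRing.residue R z₀ = ((z : kˣ) : k) := hz₀
      simp only [F, Polynomial.derivative_sub, Polynomial.derivative_X_pow, Polynomial.derivative_C, sub_zero,
        Polynomial.eval_mul, Polynomial.eval_C, Polynomial.eval_pow, Polynomial.eval_X, map_mul, map_pow, this,
        map_natCast]
      simp only [Polynomial.eval_natCast, map_natCast]
      exact IsUnit.mul (isUnit_iff_ne_zero.mpr (NeZero.ne ((n : ℕ) : k))) ((z : kˣ).isUnit.pow _)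
    obtain ⟨w, hw, hwz⟩ := HenselianLocalRing.is_henselian F hF z₀ h1 h2
    have hwn : w ^ n = 1 := by simpa [F, sub_eq_zero] using hw
    refine ⟨rootsOfUnity.mkOfPowEq w hwn, ?_⟩
    rw [rootsOfUnity.coe_mkOfPowEq]
    have h3 := (IsLocalRing.residue_eq_zero_iff _).mpr hwz
    rw [map_sub, sub_eq_zero] at h3
    exact h3.trans hz₀
  choose lift hlift' using hlift
  have hlinj : Function.Injective lift := fun z z' h =>
    Subtype.ext (Units.ext ((hlift' z).symm.trans ((congrArg _ (by rw [h])).trans (hlift' z'))))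
  let gμ : rootsOfUnity n R → rootsOfUnity n Ω := fun ζ =>
    rootsOfUnity.mkOfPowEq (g ((ζ : Rˣ) : R)) (by
      rw [← map_pow]
      have := congrArg Units.val ((mem_rootsOfUnity n (ζ : Rˣ)).mp ζ.2)
      simp only [Units.val_pow_eq_pow_val, Units.val_one] at this
      rw [this, map_one])
  have hginj : Function.Injective gμ := by
    intro ζ ζ' h
    have h' : g ((ζ : Rˣ) : R) = g ((ζ' : Rˣ) : R) := by
      simpa [gμ] using congrArg (fun w : rootsOfUnity n Ω => (((w : Ωˣ) : Ω))) h
    refine (div_eq_one.mp ?_)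
    refine eq_one_of_map_eq_one hn g _ ?_
    rw [div_eq_mul_inv, Subgroup.coe_mul, Units.val_mul, map_mul, h', ← map_mul, ← Units.val_mul,
      ← Subgroup.coe_mul, mul_inv_cancel, Subgroup.coe_one, Units.val_one, map_one]
  have hbij : Function.Bijective (gμ ∘ lift) := by
    exact (hginj.comp hlinj).bijective_of_nat_card_le (hcard.symm ▸ card_rootsOfUnity Ω n)
  obtain ⟨z, hz⟩ := hbij.2 (rootsOfUnity.mkOfPowEq x hx)
  exact ⟨lift z, by simpa [gμ] using congrArg (fun w : rootsOfUnity n Ω => ((w : Ωˣ) : Ω)) hz⟩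

/-- Morphisms from a connected scheme to a separated unramified scheme agreeing at some point are equal. -/
theorem eq_of_eq_at {X Y S Z : Scheme.{u}} (x : X ⟶ S) [Etale x] [IsSeparated x] [ConnectedSpace Y]
    (a b : Y ⟶ X) (h : a ≫ x = b ≫ x) (s : Z ⟶ Y) [Nonempty Z] (hs : s ≫ a = s ≫ b) : a = b := by
  let l : Y ⟶ pullback x x := pullback.lift a b h
  let ι : pullback (pullback.diagonal x) l ⟶ Y := pullback.snd _ _
  let m : Z ⟶ pullback (pullback.diagonal x) l :=
    pullback.lift (s ≫ a) s (by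
      apply pullback.hom_ext
      · simp only [l, Category.assoc, pullback.diagonal_fst, Category.comp_id]
        erw [pullback.lift_fst]
      · simp only [l, Category.assoc, pullback.diagonal_snd, Category.comp_id]
        erw [pullback.lift_snd]
        exact hs)
  haveI : Surjective ι := by
    obtain ⟨z⟩ := ‹Nonempty Z›
    have hne : (Set.range ι).Nonempty := ⟨_, m z, rfl⟩
    have hu := IsClopen.eq_univ ⟨ι.isClosedEmbedding.isClosed_range, ι.isOpenEmbedding.isOpen_range⟩ hne
    exact ⟨Set.range_eq_univ.1 hu⟩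
  haveI : Epi ι.base := (TopCat.epi_iff_surjective _).2 ι.surjective
  haveI : IsIso ι := IsOpenImmersion.isIso ι
  have h1 : ι ≫ a = pullback.fst (pullback.diagonal x) l := by
    have h0 := congrArg (· ≫ pullback.fst x x) (pullback.condition (f := pullback.diagonal x) (g := l))
    simp only [Category.assoc, pullback.diagonal_fst, Category.comp_id] at h0
    exact ((congrArg (ι ≫ ·) (pullback.lift_fst a b h)).symm.trans h0.symm)
  have h2 : ι ≫ b = pullback.fst (pullback.diagonal x) l := by
    have h0 := congrArg (· ≫ pullback.snd x x) (pullback.condition (f := pullback.diagonal x) (g := l))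
    simp only [Category.assoc, pullback.diagonal_snd, Category.comp_id] at h0
    exact ((congrArg (ι ≫ ·) (pullback.lift_snd a b h)).symm.trans h0.symm)
  exact (cancel_epi ι).1 (h1.trans h2.symm)

/-- the complement of the divisor in the spectrum of a local ring -/
theorem basicOpen_eq_U₀ {A : Type u} [CommRing A] {r : ℕ} (b : Fin r → A) {ι : Type} [Fintype ι] (v : ι → Fin r)
    (hv : ∀ j, (∃ i, v i = j) ∨ IsUnit (b j)) (φ' : Fin r → Γ(Spec (CommRingCat.of A), ⊤))
    (hφ : ∀ j, φ' j = (Scheme.ΓSpecIso (CommRingCat.of A)).inv (b j)) :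
    SGA1t.compl φ' = U₀ (fun i => b (v i)) := by
  have h1 : ∏ j, φ' j = (Scheme.ΓSpecIso (CommRingCat.of A)).inv (∏ j, b j) := by
    rw [map_prod]; exact Finset.prod_congr rfl fun j _ => hφ j
  rw [SGA1t.compl, h1]
  erw [basicOpen_eq_of_affine]
  ext p
  change ∏ j, b j ∉ (p : PrimeSpectrum A).asIdeal ↔ ∏ i, b (v i) ∉ (p : PrimeSpectrum A).asIdeal
  rw [not_iff_not, Ideal.IsPrime.prod_mem_iff, Ideal.IsPrime.prod_mem_iff]
  constructor
  · rintro ⟨j, -, hj⟩
    rcases hv j with ⟨i, rfl⟩ | hu
    · exact ⟨i, Finset.mem_univ _, hj⟩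
    · exact absurd (Ideal.eq_top_of_isUnit_mem _ hj hu) (PrimeSpectrum.isPrime p).ne_top
  · rintro ⟨i, -, hi⟩
    exact ⟨v i, Finset.mem_univ _, hi⟩

end Groth.Agent.EtRamLib.Kummer.Cover
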