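import Groth.Agent.S18597
import Groth.Agent.EtStruct.Residue
import Groth.Agent.CycLib.SpecPt

/-! Residue extensions of etale morphisms with a transitive group; stalks at generizations over discrete valuation rings. -/

set_option autoImplicit false
universe u

namespace Groth.Agent.EtRamLib.Kummer

set_option maxHeartbeats 400000 in
open AlgebraicGeometry CategoryTheory in
/-- the residue extension under a transitive finite group action is Galois of degree dividing the order -/
lemma galois_residue {X Y : Scheme.{u}} (f : Y ⟶ X) [Etale f] (G : Type*) [Group G] [Finite G]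
    (ρ : G → (Y ⟶ Y)) (h1 : ρ 1 = 𝟙 Y) (hmul : ∀ a b, ρ (a * b) = ρ b ≫ ρ a) (hover : ∀ g, ρ g ≫ f = f)
    (htrans : ∀ (Ω : Type u) [Field Ω] [IsAlgClosed Ω] (s t : Spec (CommRingCat.of Ω) ⟶ Y),
      s ≫ f = t ≫ f → ∃ g, s ≫ ρ g = t) (z : Y) :
    letI : Algebra (X.residueField (f.base z)) (Y.residueField z) := (f.residueFieldMap z).hom.toAlgebra
    FiniteDimensional (X.residueField (f.base z)) (Y.residueField z) ∧
      IsGalois (X.residueField (f.base z)) (Y.residueField z) ∧
      Module.finrank (X.residueField (f.base z)) (Y.residueField z) ∣ Nat.card G := by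
  classical
  let K := X.residueField (f.base z)
  let L := Y.residueField z
  letI : Algebra K L := (f.residueFieldMap z).hom.toAlgebra
  obtain ⟨-, hLfin, hLsep⟩ := (EtStruct.stalkMap_formallyUnramified_iff f z).1
    (AlgebraicGeometry.FormallyUnramified.stalkMap f z)
  haveI : FiniteDimensional K L := hLfin
  haveI : Algebra.IsSeparable K L := hLsep
  let Ω := AlgebraicClosure K
  let ξ : Spec (CommRingCat.of Ω) ⟶ X :=
    Spec.map (CommRingCat.ofHom (algebraMap K Ω)) ≫ X.fromSpecResidueField (f.base z)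
  let P := {s : Spec (CommRingCat.of Ω) ⟶ Y // s ≫ f = ξ}
  have hpt : ∀ j : L →ₐ[K] Ω, (Spec.map (CommRingCat.ofHom j.toRingHom) ≫ Y.fromSpecResidueField z) ≫ f = ξ := by
    intro j
    rw [Category.assoc, ← f.SpecMap_residueFieldMap_fromSpecResidueField z, ← Spec.map_comp_assoc]
    exact congrArg (fun g ↦ Spec.map g ≫ X.fromSpecResidueField (f.base z))
      (CommRingCat.hom_ext (RingHom.ext fun c ↦ j.commutes c))
  let sj : (L →ₐ[K] Ω) → P := fun j ↦ ⟨_, hpt j⟩
  let pt : P → Y := fun s ↦ s.1 (IsLocalRing.closedPoint Ω)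
  have hptc : ∀ (z' : Y) (r : Y.residueField z' ⟶ CommRingCat.of Ω),
      (Spec.map r ≫ Y.fromSpecResidueField z') (IsLocalRing.closedPoint Ω) = z' := fun z' r ↦
    S18597.point_eq z' r _
  have hpj : ∀ j, pt (sj j) = z := fun j ↦ hptc z _
  have hinj : Function.Injective sj := fun j j' h ↦ AlgHom.ext fun c ↦ by
    have h' := Spec.map_injective ((cancel_mono (Y.fromSpecResidueField z)).1 (congrArg Subtype.val h))
    exact congr($h' c)
  have hsurj : ∀ s, pt s = z → ∃ j, sj j = s := by
    intro s hs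
    obtain ⟨⟨z', r⟩, hr⟩ := (Scheme.SpecToEquivOfField Ω Y).symm.surjective s.1
    change Spec.map r ≫ Y.fromSpecResidueField z' = s.1 at hr
    obtain rfl : z = z' := hs.symm.trans (by
      change s.1 (IsLocalRing.closedPoint Ω) = z'
      rw [← hr]
      exact hptc z' r)
    have h2 : f.residueFieldMap z ≫ r = CommRingCat.ofHom (algebraMap K Ω) := Spec.map_injective (by
      rw [← cancel_mono (X.fromSpecResidueField (f.base z))]
      rw [Spec.map_comp, Category.assoc, f.SpecMap_residueFieldMap_fromSpecResidueField z, ← Category.assoc, hr]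
      exact s.2)
    exact ⟨{ r.hom with commutes' := fun c ↦ congr($h2 c) }, Subtype.ext hr⟩
  letI : MulAction G P :=
    { smul := fun g s ↦ ⟨s.1 ≫ ρ g, by rw [Category.assoc, hover, s.2]⟩
      one_smul := fun s ↦ Subtype.ext (show s.1 ≫ ρ 1 = s.1 by rw [h1, Category.comp_id])
      mul_smul := fun a b s ↦ Subtype.ext (show s.1 ≫ ρ (a * b) = (s.1 ≫ ρ b) ≫ ρ a by rw [hmul, Category.assoc]) }
  have hptσ : ∀ (g : G) s, pt (g • s) = ρ g (pt s) := fun g s ↦ rfl
  let D : Subgroup G :=
    { carrier := {g | ρ g z = z}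
      one_mem' := by show ρ 1 z = z; rw [h1]; rfl
      mul_mem' := fun {a b} ha hb ↦ by
        show ρ (a * b) z = z
        rw [hmul]
        exact (congrArg (ρ a) hb).trans ha
      inv_mem' := fun {a} ha ↦ by
        show ρ a⁻¹ z = z
        calc ρ a⁻¹ z = ρ a⁻¹ (ρ a z) := congrArg (ρ a⁻¹) ha.symm
          _ = (ρ a ≫ ρ a⁻¹) z := rfl
          _ = z := by rw [← hmul, inv_mul_cancel, h1]; rfl }
  let T := {s : P // pt s = z}
  letI : MulAction D T :=
    { smul := fun σ s ↦ ⟨(σ : G) • s.1, (hptσ σ s.1).trans ((congrArg (ρ σ) s.2).trans σ.2)⟩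
      one_smul := fun s ↦ Subtype.ext (one_smul G s.1)
      mul_smul := fun a b s ↦ Subtype.ext (mul_smul (a : G) (b : G) s.1) }
  have e : (L →ₐ[K] Ω) ≃ T := Equiv.ofBijective (fun j ↦ ⟨sj j, hpj j⟩)
    ⟨fun a b h ↦ hinj (congrArg Subtype.val h), fun s ↦ by
      obtain ⟨j, hj⟩ := hsurj s.1 s.2
      exact ⟨j, Subtype.ext hj⟩⟩
  have hcard : Nat.card T = Module.finrank K L := by
    rw [← Nat.card_congr e, Nat.card_eq_fintype_card, AlgHom.card]
  haveI : MulAction.IsPretransitive D T := ⟨fun s t ↦ by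
    obtain ⟨g, hg⟩ := htrans Ω s.1.1 t.1.1 (s.1.2.trans t.1.2.symm)
    have hg' : g • s.1 = t.1 := Subtype.ext hg
    have hσz : ρ g z = z := by
      have h := hptσ g s.1
      rw [hg', t.2, s.2] at h
      exact h.symm
    exact ⟨⟨g, hσz⟩, Subtype.ext hg'⟩⟩
  let j₀ : L →ₐ[K] Ω := IsAlgClosed.lift
  refine ⟨inferInstance, ?_, ?_⟩
  · have hτ : ∀ j : L →ₐ[K] Ω, ∃ τ : L →ₐ[K] L, j₀.comp τ = j := by
      intro j
      obtain ⟨g, hg⟩ := htrans Ω (sj j₀).1 (sj j).1 ((sj j₀).2.trans (sj j).2.symm)
      obtain ⟨⟨z', r⟩, hr⟩ := (Scheme.SpecToEquivOfField L Y).symm.surjective (Y.fromSpecResidueField z ≫ ρ g)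
      change Spec.map r ≫ Y.fromSpecResidueField z' = Y.fromSpecResidueField z ≫ ρ g at hr
      change (Spec.map (CommRingCat.ofHom j₀.toRingHom) ≫ Y.fromSpecResidueField z) ≫ ρ g =
        Spec.map (CommRingCat.ofHom j.toRingHom) ≫ Y.fromSpecResidueField z at hg
      rw [Category.assoc, ← hr, ← Spec.map_comp_assoc] at hg
      have h := (Scheme.SpecToEquivOfField Ω Y).symm.injective
        (a₁ := ⟨z', r ≫ CommRingCat.ofHom j₀.toRingHom⟩) (a₂ := ⟨z, CommRingCat.ofHom j.toRingHom⟩) hg
      obtain ⟨rfl, h⟩ := Sigma.mk.inj_iff.1 h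
      replace h := eq_of_heq h
      refine ⟨{ r.hom with commutes' := fun c ↦ j₀.toRingHom.injective ?_ }, AlgHom.ext fun c ↦ congr($h c)⟩
      exact (congr($h (algebraMap K L c))).trans ((j.commutes c).trans (j₀.commutes c).symm)
    choose τ hτ using hτ
    have hτinj : Function.Injective fun j ↦ AlgEquiv.ofBijective (τ j) (Algebra.IsAlgebraic.algHom_bijective (τ j)) :=
      fun a b h ↦ by
        rw [← hτ a, ← hτ b]
        exact congrArg j₀.comp (congrArg AlgEquiv.toAlgHom h)
    refine IsGalois.of_card_aut_eq_finrank K L (le_antisymm ?_ ?_)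
    · rw [Nat.card_eq_fintype_card]; exact AlgEquiv.card_le
    · rw [← hcard, ← Nat.card_congr e]
      exact Nat.card_le_card_of_injective _ hτinj
  · obtain ⟨s⟩ : Nonempty T := ⟨e j₀⟩
    rw [← hcard, ← MulAction.index_stabilizer_of_transitive D s]
    exact (Subgroup.index_dvd_card _).trans (Subgroup.card_subgroup_dvd_card D)


open AlgebraicGeometry CategoryTheory in
/-- A proper generization of a point with a discrete valuation stalk carries the fraction field. -/
theorem isFractionRing_of_ne {X : Scheme.{u}} {u y : X} (h : u ⤳ y) (hne : u ≠ y)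
    [IsDomain (X.presheaf.stalk y)] [IsDiscreteValuationRing (X.presheaf.stalk y)] :
    letI : Algebra (X.presheaf.stalk y) (X.residueField u) := (Cyc.specMap y u h).toAlgebra
    IsFractionRing (X.presheaf.stalk y) (X.residueField u) := by
  letI : Algebra (X.presheaf.stalk y) (X.residueField u) := (Cyc.specMap y u h).toAlgebra
  have hne' : CycLib.ptPrime y u h ≠ IsLocalRing.closedPoint (X.presheaf.stalk y) := fun e => hne (by
    rw [← CycLib.fromSpecStalk_ptPrime y u h, e]
    exact Scheme.fromSpecStalk_closedPoint)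
  have hbot : RingHom.ker (Cyc.specMap y u h) = ⊥ := by
    by_contra hb
    haveI := (RingHom.ker_isPrime (Cyc.specMap y u h)).isMaximal hb
    exact hne' (PrimeSpectrum.ext (IsLocalRing.eq_maximalIdeal this))
  letI := (X.presheaf.stalkSpecializes h).hom.toAlgebra
  haveI : (RingHom.ker (Cyc.specMap y u h)).IsPrime := RingHom.ker_isPrime _
  haveI hloc : IsLocalization.AtPrime (X.presheaf.stalk u) (RingHom.ker (Cyc.specMap y u h)) :=
    CycLib.isLocalization_stalkSpecializes h
  have hM : (RingHom.ker (Cyc.specMap y u h)).primeCompl = nonZeroDivisors (X.presheaf.stalk y) := by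
    ext a
    rw [mem_nonZeroDivisors_iff_ne_zero, Ideal.mem_primeCompl_iff, hbot, Ideal.mem_bot]
  haveI hfr : IsFractionRing (X.presheaf.stalk y) (X.presheaf.stalk u) := by
    show IsLocalization _ _
    rw [← hM]; exact hloc
  letI : Field (X.presheaf.stalk u) := IsFractionRing.toField (X.presheaf.stalk y)
  have hres : Function.Bijective (X.residue u).hom :=
    ⟨RingHom.injective _, IsLocalRing.residue_surjective⟩
  exact IsLocalization.isLocalization_of_algEquiv (nonZeroDivisors (X.presheaf.stalk y))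
    (AlgEquiv.ofRingEquiv (f := RingEquiv.ofBijective _ hres) fun _ => rfl)

end Groth.Agent.EtRamLib.Kummer
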