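import Groth.Agent.EtRamLib.Kummer.SNCConn
import Groth.Agent.EtRamLib.Kummer.GaloisResidue

/-! Residue extensions of base changes of Kummer covers to schemes over separably closed fields. -/

set_option autoImplicit false

universe u

namespace Groth.Agent.EtRamLib.Kummer.Cover

open CategoryTheory CategoryTheory.Limits AlgebraicGeometry SGA1t Groth.Agent.EtRamLib.Kummer.Basis

/-- the ring map of a morphism to an affine scheme -/
noncomputable def toRing {T : Scheme.{u}} {K : Type u} [CommRing K] (m : T ⟶ Spec (CommRingCat.of K)) :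
    K →+* Γ(T, ⊤) := ((Scheme.ΓSpecIso (CommRingCat.of K)).inv ≫ m.appTop).hom

theorem toRing_comp {T T' : Scheme.{u}} {K : Type u} [CommRing K] (v : T' ⟶ T) (m : T ⟶ Spec (CommRingCat.of K)) :
    toRing (v ≫ m) = v.appTop.hom.comp (toRing m) := by
  ext x; rfl

theorem toRing_specMap {T : Scheme.{u}} {A K : Type u} [CommRing A] [CommRing K] (m : T ⟶ Spec (CommRingCat.of K))
    (g : A →+* K) : toRing (m ≫ Spec.map (CommRingCat.ofHom g)) = (toRing m).comp g := by
  have h : (Scheme.ΓSpecIso (CommRingCat.of A)).inv ≫ (m ≫ Spec.map (CommRingCat.ofHom g)).appTop =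
      CommRingCat.ofHom g ≫ (Scheme.ΓSpecIso (CommRingCat.of K)).inv ≫ m.appTop := by
    rw [Scheme.Hom.comp_appTop, ← Category.assoc, ← Scheme.ΓSpecIso_inv_naturality, Category.assoc]
  exact congrArg CommRingCat.Hom.hom h

theorem toRing_Spec {B K : Type u} [CommRing B] [CommRing K] (g : K →+* B) :
    toRing (Spec.map (CommRingCat.ofHom g)) = (Scheme.ΓSpecIso (CommRingCat.of B)).inv.hom.comp g := by
  rw [← Category.id_comp (Spec.map (CommRingCat.ofHom g)), toRing_specMap]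
  ext x
  simp [toRing]

theorem toRing_injective {T : Scheme.{u}} {K : Type u} [CommRing K] {m m' : T ⟶ Spec (CommRingCat.of K)}
    (h : toRing m = toRing m') : m = m' := by
  apply ext_of_isAffine
  rw [← cancel_epi (Scheme.ΓSpecIso (CommRingCat.of K)).inv]
  exact CommRingCat.hom_ext h

theorem toRing_mk {T : Scheme.{u}} {K : Type u} [CommRing K] (g : K →+* Γ(T, ⊤)) :
    toRing (T.toSpecΓ ≫ Spec.map (CommRingCat.ofHom g)) = g := by
  rw [toRing_specMap]
  have h : (Scheme.ΓSpecIso Γ(T, ⊤)).inv ≫ T.toSpecΓ.appTop = 𝟙 _ := by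
    rw [Scheme.toSpecΓ_appTop, Iso.inv_hom_id]
  ext x
  exact congr($h (g x))

variable {A : Type u} [CommRing A] {ι : Type} [Fintype ι] [DecidableEq ι] (a : ι → A) (n : ι → ℕ)
  [∀ i, NeZero (n i)]

/-- The residue extensions of the base change of a Kummer cover to a scheme over a separably closed field are
Galois, of degree dividing `∏ n i`. -/
theorem galois_residue_kummer (U : (Spec (CommRingCat.of A)).Opens) (hU : U = U₀ a) [Etale (π a n ∣_ U)]
    {Y : Scheme.{u}} (q : Y ⟶ Spec (CommRingCat.of A)) {Ω : Type u} [Field Ω] [IsSepClosed Ω]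
    (p : Y ⟶ Spec (CommRingCat.of Ω)) (hn : ∀ i, ((n i : ℕ) : Ω) ≠ 0)
    (w : ↥(pullback ((π a n ∣_ U) ≫ U.ι) q)) :
    letI : Algebra (Y.residueField ((pullback.snd ((π a n ∣_ U) ≫ U.ι) q).base w))
        ((pullback ((π a n ∣_ U) ≫ U.ι) q).residueField w) :=
      ((pullback.snd ((π a n ∣_ U) ≫ U.ι) q).residueFieldMap w).hom.toAlgebra
    FiniteDimensional (Y.residueField ((pullback.snd ((π a n ∣_ U) ≫ U.ι) q).base w))
        ((pullback ((π a n ∣_ U) ≫ U.ι) q).residueField w) ∧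
      IsGalois (Y.residueField ((pullback.snd ((π a n ∣_ U) ≫ U.ι) q).base w))
        ((pullback ((π a n ∣_ U) ≫ U.ι) q).residueField w) ∧
      Module.finrank (Y.residueField ((pullback.snd ((π a n ∣_ U) ≫ U.ι) q).base w))
        ((pullback ((π a n ∣_ U) ≫ U.ι) q).residueField w) ∣ ∏ i, n i := by
  classical
  let W := pullback ((π a n ∣_ U) ≫ U.ι) q
  let f₁ : W ⟶ ((π a n) ⁻¹ᵁ U).toScheme := pullback.fst _ _
  let f₂ : W ⟶ Y := pullback.snd _ _
  let c : Ω →+* Γ(W, ⊤) := toRing (f₂ ≫ p)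
  let m : W ⟶ Spec (CommRingCat.of (kummer A a n)) := f₁ ≫ ((π a n) ⁻¹ᵁ U).ι
  let ψ := toRing m
  haveI : ∀ i, NeZero ((n i : ℕ) : Ω) := fun i => ⟨hn i⟩
  let G := ∀ i, rootsOfUnity (n i) Ω
  let g : G → (kummer A a n →+* Γ(W, ⊤)) := fun ζ => Ideal.Quotient.lift _
    (MvPolynomial.eval₂Hom (ψ.comp (algebraMap A _)) (fun i => c ((ζ i : Ωˣ) : Ω) * ψ (T a n i))) (by
      intro P hP
      refine (Ideal.span_le (I := RingHom.ker _)).mpr ?_ hP
      rintro _ ⟨i, rfl⟩
      rw [SetLike.mem_coe, RingHom.mem_ker, map_sub, map_pow, MvPolynomial.eval₂Hom_X', MvPolynomial.eval₂Hom_C,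
        mul_pow, ← map_pow c, ← map_pow ψ, T_pow]
      have : (((ζ i : Ωˣ) : Ω)) ^ n i = 1 := by
        simpa using congrArg Units.val ((mem_rootsOfUnity (n i) (ζ i : Ωˣ)).mp (ζ i).2)
      rw [this, map_one, one_mul]
      exact sub_self _)
  have hgA : ∀ ζ, (g ζ).comp (algebraMap A _) = ψ.comp (algebraMap A _) := fun ζ => RingHom.ext fun r =>
    MvPolynomial.eval₂Hom_C _ _ r
  have hgT : ∀ ζ i, g ζ (T a n i) = c ((ζ i : Ωˣ) : Ω) * ψ (T a n i) := fun ζ i =>
    MvPolynomial.eval₂Hom_X' _ _ i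
  let mg : G → (W ⟶ Spec (CommRingCat.of (kummer A a n))) := fun ζ =>
    W.toSpecΓ ≫ Spec.map (CommRingCat.ofHom (g ζ))
  have hmgπ : ∀ ζ, mg ζ ≫ π a n = (f₁ ≫ (π a n ∣_ U)) ≫ U.ι := fun ζ => by
    rw [Category.assoc f₁, morphismRestrict_ι, ← Category.assoc]
    apply toRing_injective
    rw [toRing_specMap, toRing_mk, toRing_specMap, hgA]
  let lU : G → (W ⟶ ((π a n) ⁻¹ᵁ U).toScheme) := fun ζ =>
    (isPullback_morphismRestrict (π a n) U).lift (f₁ ≫ (π a n ∣_ U)) (mg ζ) (hmgπ ζ).symm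
  have hlι : ∀ ζ, lU ζ ≫ ((π a n) ⁻¹ᵁ U).ι = mg ζ := fun ζ => IsPullback.lift_snd _ _ _ _
  have hlπ : ∀ ζ, lU ζ ≫ (π a n ∣_ U) = f₁ ≫ (π a n ∣_ U) := fun ζ => IsPullback.lift_fst _ _ _ _
  let act : G → (W ⟶ W) := fun ζ => pullback.lift (lU ζ) f₂ (by
    rw [← Category.assoc, hlπ, Category.assoc]; exact pullback.condition)
  have hact₂ : ∀ ζ, act ζ ≫ f₂ = f₂ := fun ζ => pullback.lift_snd _ _ _
  have hactm : ∀ ζ, act ζ ≫ m = mg ζ := fun ζ => by
    rw [← hlι ζ]
    exact (Category.assoc _ _ _).symm.trans (congrArg (· ≫ _) (pullback.lift_fst _ _ _))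
  have hext : ∀ {T' : Scheme.{u}} (v v' : T' ⟶ W), v ≫ f₂ = v' ≫ f₂ →
      (toRing (v ≫ m)).comp (algebraMap A _) = (toRing (v' ≫ m)).comp (algebraMap A _) →
      (∀ i, toRing (v ≫ m) (T a n i) = toRing (v' ≫ m) (T a n i)) → v = v' := by
    intro T' v v' h₂ hA hT
    have hm : v ≫ m = v' ≫ m := toRing_injective (kummer_hom_ext a n hA hT)
    refine pullback.hom_ext ?_ h₂
    apply (cancel_mono ((π a n) ⁻¹ᵁ U).ι).1
    exact (Category.assoc _ _ _).trans (hm.trans (Category.assoc _ _ _).symm)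
  have hactA : ∀ ζ, (toRing (act ζ ≫ m)).comp (algebraMap A _) = ψ.comp (algebraMap A _) := fun ζ => by
    rw [hactm, toRing_mk, hgA]
  have hactT : ∀ ζ i, toRing (act ζ ≫ m) (T a n i) = c ((ζ i : Ωˣ) : Ω) * ψ (T a n i) := fun ζ i => by
    rw [hactm, toRing_mk, hgT]
  have h1 : act 1 = 𝟙 _ := by
    refine hext _ _ (by rw [hact₂, Category.id_comp]) (by rw [hactA, Category.id_comp]) fun i => ?_
    rw [hactT, Category.id_comp]
    show c (((1 : rootsOfUnity (n i) Ω) : Ωˣ) : Ω) * _ = _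
    rw [Subgroup.coe_one, Units.val_one, map_one, one_mul]
  have hfix : ∀ ζ (z : Ω), (act ζ).appTop (c z) = c z := fun ζ z => by
    have h : toRing (act ζ ≫ f₂ ≫ p) = toRing (f₂ ≫ p) := by rw [← Category.assoc, hact₂]
    rw [toRing_comp] at h
    exact congr($h z)
  have hmul : ∀ ζ η, act (ζ * η) = act η ≫ act ζ := fun ζ η => by
    refine hext _ _ (by rw [Category.assoc, hact₂, hact₂, hact₂]) ?_ fun i => ?_
    · have e : (toRing ((act η ≫ act ζ) ≫ m)).comp (algebraMap A _) = ψ.comp (algebraMap A _) := by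
        rw [Category.assoc, toRing_comp, RingHom.comp_assoc, hactA, ← RingHom.comp_assoc, ← toRing_comp, hactA]
      rw [hactA, e]
    · rw [hactT, Category.assoc, toRing_comp (act η), RingHom.comp_apply, hactT, map_mul, hfix]
      have e : (act η).appTop (ψ (T a n i)) = toRing (act η ≫ m) (T a n i) := by rw [toRing_comp]; rfl
      rw [e, hactT, Pi.mul_apply, Subgroup.coe_mul, Units.val_mul, map_mul, mul_assoc]
  haveI : Etale f₂ := MorphismProperty.pullback_snd (P := @Etale) _ _ inferInstance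
  obtain ⟨k1, k2, k3⟩ := galois_residue f₂ G act h1 hmul hact₂ (fun Ω' _ _ s t hst => by
      obtain ⟨ψs, hψs0, hψs⟩ := exists_ringHom a n U hU (s ≫ f₁)
      obtain ⟨ψt, -, hψt⟩ := exists_ringHom a n U hU (t ≫ f₁)
      let e := (Scheme.ΓSpecIso (CommRingCat.of Ω')).inv.hom
      have hs : toRing (s ≫ m) = e.comp ψs := by
        show toRing (s ≫ f₁ ≫ ((π a n) ⁻¹ᵁ U).ι) = _
        rw [← Category.assoc, ← hψs, toRing_Spec]
      have ht : toRing (t ≫ m) = e.comp ψt := by
        show toRing (t ≫ f₁ ≫ ((π a n) ⁻¹ᵁ U).ι) = _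
        rw [← Category.assoc, ← hψt, toRing_Spec]
      have hbase : s ≫ f₁ ≫ (π a n ∣_ U) ≫ U.ι = t ≫ f₁ ≫ (π a n ∣_ U) ≫ U.ι := by
        rw [pullback.condition, ← Category.assoc, ← Category.assoc]
        exact congrArg (· ≫ q) hst
      have hA : (toRing (s ≫ m)).comp (algebraMap A _) = (toRing (t ≫ m)).comp (algebraMap A _) := by
        rw [← toRing_specMap, ← toRing_specMap]
        simp only [m, Category.assoc]
        rw [show ((π a n) ⁻¹ᵁ U).ι ≫ π a n = (π a n ∣_ U) ≫ U.ι from (morphismRestrict_ι _ _).symm, hbase]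
      have heinj : Function.Injective e :=
        ((Scheme.ΓSpecIso (CommRingCat.of Ω')).symm.commRingCatIsoToRingEquiv).injective
      have hA' : ψt.comp (algebraMap A _) = ψs.comp (algebraMap A _) := RingHom.ext fun r => heinj (by
        have := congr($hA r)
        rw [hs, ht] at this
        exact this.symm)
      obtain ⟨ζ₀, hζ₀⟩ := Spec.map_surjective (s ≫ f₂ ≫ p)
      have hex : ∀ i, ∃ ζ : rootsOfUnity (n i) Ω, ζ₀.hom ((ζ : Ωˣ) : Ω) = ψt (T a n i) / ψs (T a n i) := by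
        intro i
        have hx : (ψt (T a n i) / ψs (T a n i)) ^ n i = 1 := by
          rw [div_pow, div_eq_one_iff_eq (pow_ne_zero _ (hψs0 i)), ← map_pow ψt, ← map_pow ψs, T_pow]
          exact congr($hA' (a i))
        let gμ : rootsOfUnity (n i) Ω → rootsOfUnity (n i) Ω' := fun ζ => restrictRootsOfUnity ζ₀.hom (n i) ζ
        have hinj : Function.Injective gμ := fun z z' h => Subtype.ext (Units.ext (RingHom.injective ζ₀.hom
          (congrArg (fun w : rootsOfUnity (n i) Ω' => ((w : Ω'ˣ) : Ω')) h)))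
        have hbij := hinj.bijective_of_nat_card_le
          ((HasEnoughRootsOfUnity.natCard_rootsOfUnity Ω (n i)).symm ▸ card_rootsOfUnity Ω' (n i))
        obtain ⟨z, hz⟩ := hbij.2 (rootsOfUnity.mkOfPowEq _ hx)
        exact ⟨z, congrArg (fun w : rootsOfUnity (n i) Ω' => ((w : Ω'ˣ) : Ω')) hz⟩
      choose ζ hζ using hex
      refine ⟨ζ, hext _ _ (by rw [Category.assoc, hact₂]; exact hst) ?_ fun i => ?_⟩
      · rw [Category.assoc, toRing_comp, RingHom.comp_assoc, hactA, ← RingHom.comp_assoc, ← toRing_comp]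
        exact hA
      · rw [Category.assoc, toRing_comp, RingHom.comp_apply, hactT, map_mul]
        have e1 : s.appTop (c ((ζ i : Ωˣ) : Ω)) = e (ζ₀.hom ((ζ i : Ωˣ) : Ω)) := by
          have h : toRing (s ≫ f₂ ≫ p) = e.comp ζ₀.hom := by
            rw [← hζ₀]
            exact toRing_Spec ζ₀.hom
          rw [toRing_comp] at h
          exact congr($h _)
        have e2 : s.appTop (ψ (T a n i)) = e (ψs (T a n i)) := by
          rw [toRing_comp] at hs
          exact congr($hs _)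
        rw [ht, RingHom.comp_apply]
        refine (congrArg₂ (· * ·) e1 e2).trans ?_
        rw [← map_mul, hζ i, div_mul_cancel₀ _ (hψs0 i)]) w
  refine ⟨k1, k2, ?_⟩
  have hcard : Nat.card G = ∏ i, n i := by
    rw [Nat.card_pi]
    exact Finset.prod_congr rfl fun i _ => HasEnoughRootsOfUnity.natCard_rootsOfUnity Ω (n i)
  exact hcard ▸ k3

end Groth.Agent.EtRamLib.Kummer.Cover
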