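import Groth.Prelude.Def_SGA1t
import Mathlib.AlgebraicGeometry.Morphisms.Etale

/-! Relative normal crossings divisors are stable under base change. -/

set_option autoImplicit false

universe u

open CategoryTheory CategoryTheory.Limits AlgebraicGeometry

namespace Groth.Agent.EtRamLib.Kummer.Cover

open SGA1t

theorem isRelSNC_pullback {X S S' : Scheme.{u}} (f : X ⟶ S) {r : ℕ} (φ : Fin r → Γ(X, ⊤))
    (hD : IsRelSNC f φ) (h : S' ⟶ S) :
    IsRelSNC (pullback.snd f h) (fun i => (pullback.fst f h).appTop (φ i)) := by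
  intro x' hx'
  have hiff : ∀ i, x' ∈ (pullback f h).basicOpen ((pullback.fst f h).appTop (φ i)) ↔
      pullback.fst f h x' ∈ X.basicOpen (φ i) := fun i => by
    rw [← Scheme.preimage_basicOpen_top]; rfl
  let toX : vanishingAt (fun i => (pullback.fst f h).appTop (φ i)) x' → vanishingAt φ (pullback.fst f h x') :=
    fun i => ⟨i.1, fun hi => i.2 ((hiff i.1).mpr hi)⟩
  obtain ⟨i₀⟩ := hx'
  obtain ⟨W, hxW, d, v, e, he, het, hv⟩ := hD (pullback.fst f h x') ⟨toX i₀⟩
  let W' := pullback.fst f h ⁻¹ᵁ W
  let k := pullback.fst f h ∣_ W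
  have hsq : IsPullback k (W'.ι ≫ pullback.snd f h) (W.ι ≫ f) h :=
    ((isPullback_morphismRestrict (pullback.fst f h) W).paste_vert
      (IsPullback.of_hasPullback f h))
  let v' : ULift.{u} (Fin d) → Γ(W', ⊤) := fun j => k.appTop (v j)
  have hcomp : AffineSpace.homOfVector (W'.ι ≫ pullback.snd f h) v' ≫ AffineSpace.map (ULift.{u} (Fin d)) h =
      k ≫ AffineSpace.homOfVector (W.ι ≫ f) v := by
    apply AffineSpace.hom_ext
    · rw [Category.assoc, AffineSpace.map_over, AffineSpace.homOfVector_over_assoc, Category.assoc k,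
        AffineSpace.homOfVector_over, hsq.w, Category.assoc]
    · intro j
      rw [Scheme.Hom.comp_appTop, ConcreteCategory.comp_apply, AffineSpace.map_appTop_coord,
        AffineSpace.homOfVector_appTop_coord, Scheme.Hom.comp_appTop, ConcreteCategory.comp_apply,
        AffineSpace.homOfVector_appTop_coord]
  have hp : IsPullback k (AffineSpace.homOfVector (W'.ι ≫ pullback.snd f h) v')
      (AffineSpace.homOfVector (W.ι ≫ f) v) (AffineSpace.map (ULift.{u} (Fin d)) h) := by
    refine IsPullback.of_bot ?_ hcomp.symm (AffineSpace.isPullback_map h)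
    rw [AffineSpace.homOfVector_over, AffineSpace.homOfVector_over]
    exact hsq
  refine ⟨W', hxW, d, v', fun i => e (toX i), fun i j hij => ?_, MorphismProperty.of_isPullback hp het,
    fun i => ?_⟩
  · have := congrArg Subtype.val (he hij)
    exact Subtype.ext this
  · show k.appTop (v (ULift.up (e (toX i)))) = _
    rw [hv]
    have h2 : ∀ {Z : Scheme.{u}} (O : Z.Opens) (s : Γ(Z, ⊤)),
        O.topIso.inv (Z.presheaf.map (homOfLE le_top).op s) = O.ι.appTop s := fun O s => by
      simp [Scheme.Opens.ι_appTop, Scheme.Opens.topIso]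
      rw [← ConcreteCategory.comp_apply]
      erw [← Functor.map_comp]
      rfl
    rw [h2, h2, ← ConcreteCategory.comp_apply, ← Scheme.Hom.comp_appTop, ← ConcreteCategory.comp_apply,
      ← Scheme.Hom.comp_appTop]
    exact congrArg (fun m => Scheme.Hom.appTop m (φ i.1)) (morphismRestrict_ι (pullback.fst f h) W)

end Groth.Agent.EtRamLib.Kummer.Cover
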