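import Groth.Agent.EtRamLib.Kummer.CoverAux

/-! The Kummer covers of a relative normal crossings divisor are connected locally. -/

set_option autoImplicit false

universe u

namespace Groth.Agent.EtRamLib.Kummer.Cover

open CategoryTheory CategoryTheory.Limits AlgebraicGeometry SGA1t

theorem finite_vanishingAt {X : Scheme.{u}} {r : ℕ} (φ : Fin r → Γ(X, ⊤)) (x : X) : Finite (vanishingAt φ x) :=
  Subtype.finite

theorem isUnit_natCast_stalk {X : Scheme.{u}} (x : X) {m : ℕ} (h : IsUnit ((m : ℕ) : X.residueField x)) :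
    IsUnit ((m : ℕ) : X.presheaf.stalk x) := by
  by_contra h'
  have h0 : IsLocalRing.residue (X.presheaf.stalk x) ((m : ℕ) : X.presheaf.stalk x) = 0 :=
    (IsLocalRing.residue_eq_zero_iff _).mpr ((IsLocalRing.mem_maximalIdeal _).mpr h')
  rw [map_natCast] at h0
  exact h.ne_zero h0

theorem isConnected_of_SNC {X S : Scheme.{u}} (f : X ⟶ S) {r : ℕ} (φ : Fin r → Γ(X, ⊤))
    (hD : SGA1t.IsRelSNC f φ) (x : X) (hx : Nonempty (vanishingAt φ x)) (R : Type u) [CommRing R] [IsLocalRing R]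
    [Algebra (X.presheaf.stalk x) R] [IsLocalHom (algebraMap (X.presheaf.stalk x) R)]
    [Algebra.WeaklyEtale (X.presheaf.stalk x) R] [Fintype (vanishingAt φ x)] [DecidableEq (vanishingAt φ x)]
    (n : vanishingAt φ x → ℕ) [∀ i, NeZero (n i)] (hn : ∀ i, IsUnit ((n i : ℕ) : R)) :
    _root_.IsConnected (PrimeSpectrum.basicOpen (Basis.tt (fun i : vanishingAt φ x =>
      algebraMap (X.presheaf.stalk x) R ((X.presheaf.germ ⊤ x trivial).hom (φ i.1))) n) :
        Set (PrimeSpectrum (kummer R (fun i : vanishingAt φ x =>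
          algebraMap (X.presheaf.stalk x) R ((X.presheaf.germ ⊤ x trivial).hom (φ i.1))) n))) := by
  obtain ⟨V, hV, hxV, d, c, e, he, hce, -, hwe⟩ := exists_chart' f φ hD x hx
  let γ := algebraMap (X.presheaf.stalk x) R
  let ψ := MvPolynomial.eval₂Hom (S.presheaf.germ V (f x) hxV ≫ f.stalkMap x).hom c
  letI : Algebra (MvPolynomial (ULift.{u} (Fin d)) Γ(S, V)) (X.presheaf.stalk x) := ψ.toAlgebra
  letI : Algebra (MvPolynomial (ULift.{u} (Fin d)) Γ(S, V)) R := (γ.comp ψ).toAlgebra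
  haveI : IsScalarTower (MvPolynomial (ULift.{u} (Fin d)) Γ(S, V)) (X.presheaf.stalk x) R :=
    IsScalarTower.of_algebraMap_eq fun _ => rfl
  haveI := hwe
  haveI : Algebra.WeaklyEtale (MvPolynomial (ULift.{u} (Fin d)) Γ(S, V)) R :=
    Algebra.WeaklyEtale.trans _ (X.presheaf.stalk x) _
  refine Basis.isConnected_of_weaklyEtale (B := Γ(S, V)) e he _ (fun i => ?_) (fun i => ?_) n hn
  · show γ (ψ (MvPolynomial.X (e i))) = _
    rw [MvPolynomial.eval₂Hom_X', hce]
  · rw [IsLocalRing.mem_maximalIdeal, mem_nonunits_iff]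
    intro hu
    exact i.2 ((X.mem_basicOpen (φ i.1) x trivial).mpr (IsUnit.of_map γ _ hu))

theorem compl_specOf {X : Scheme.{u}} {r : ℕ} (φ : Fin r → Γ(X, ⊤)) (x : X) (R : Type u) [CommRing R]
    [Algebra (X.presheaf.stalk x) R] [Fintype (vanishingAt φ x)] (φ₁ : Fin r → Γ(Spec (CommRingCat.of R), ⊤))
    (hφ : ∀ j, φ₁ j = (Scheme.ΓSpecIso (CommRingCat.of R)).inv
      (algebraMap (X.presheaf.stalk x) R ((X.presheaf.germ ⊤ x trivial).hom (φ j)))) :
    SGA1t.compl φ₁ = U₀ (fun i : vanishingAt φ x =>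
      algebraMap (X.presheaf.stalk x) R ((X.presheaf.germ ⊤ x trivial).hom (φ i.1))) := by
  refine basicOpen_eq_U₀ (fun j => algebraMap (X.presheaf.stalk x) R ((X.presheaf.germ ⊤ x trivial).hom (φ j)))
    (fun i : vanishingAt φ x => i.1) (fun j => ?_) _ hφ
  by_cases hj : x ∈ X.basicOpen (φ j)
  · exact Or.inr (((X.mem_basicOpen (φ j) x trivial).mp hj).map _)
  · exact Or.inl ⟨⟨j, hj⟩, rfl⟩

theorem specOf_appTop {X : Scheme.{u}} {r : ℕ} (φ : Fin r → Γ(X, ⊤)) (x : X) (R : Type u) [CommRing R]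
    [Algebra (X.presheaf.stalk x) R] (j : Fin r) :
    (Spec.map (CommRingCat.ofHom (algebraMap (X.presheaf.stalk x) R)) ≫ X.fromSpecStalk x).appTop (φ j) =
      (Scheme.ΓSpecIso (CommRingCat.of R)).inv
        (algebraMap (X.presheaf.stalk x) R ((X.presheaf.germ ⊤ x trivial).hom (φ j))) := by
  rw [Scheme.Hom.comp_appTop, ConcreteCategory.comp_apply, Scheme.fromSpecStalk_appTop]
  suffices hm : X.presheaf.germ ⊤ x trivial ≫ (Scheme.ΓSpecIso (X.presheaf.stalk x)).inv ≫
      (Spec (X.presheaf.stalk x)).presheaf.map (homOfLE le_top).op ≫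
        (Spec.map (CommRingCat.ofHom (algebraMap (X.presheaf.stalk x) R))).appTop =
      (X.presheaf.germ ⊤ x trivial ≫ CommRingCat.ofHom (algebraMap (X.presheaf.stalk x) R)) ≫
        (Scheme.ΓSpecIso (CommRingCat.of R)).inv from congr($hm (φ j))
  rw [Category.assoc, Scheme.ΓSpecIso_inv_naturality]
  simp
  rfl

end Groth.Agent.EtRamLib.Kummer.Cover
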