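import Groth.Prelude.Def_NonAbH2
import Groth.Agent.RedPts.Basic
import Mathlib.RingTheory.AdjoinRoot
import Mathlib.AlgebraicGeometry.Morphisms.Flat
import Mathlib.AlgebraicGeometry.Morphisms.Finite

/-! Exactness of sequences of group schemes: kernel of points plus a finite free covering. -/

set_option autoImplicit false

universe u

open CategoryTheory CategoryTheory.Limits MonoidalCategory CartesianMonoidalCategory MonObj GrpObj AlgebraicGeometry

namespace Groth.Agent.EtRamLib.Kummer

variable {S : Scheme.{u}}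

lemma isMonHom_of_pts {A B : Over S} [GrpObj A] [GrpObj B] (v : A ⟶ B)
    (h : ∀ (Y : Over S) (x y : Y ⟶ A), (x * y) ≫ v = (x ≫ v) * (y ≫ v)) : IsMonHom v where
  one_hom := by
    have h1 := h (𝟙_ (Over S)) 1 1
    rw [_root_.mul_one] at h1
    have h2 : (1 : 𝟙_ (Over S) ⟶ A) ≫ v = 1 := mul_eq_left.mp h1.symm
    simpa [Hom.one_def, toUnit_unique (toUnit (𝟙_ (Over S))) (𝟙 _)] using h2
  mul_hom := by
    rw [mul_eq_mul, h, mul_eq_mul, MonObj.comp_mul]
    simp

theorem isPullback_of_kernel {H G Q : Over S} [GrpObj H] [GrpObj G] [GrpObj Q] (u : H ⟶ G) (v : G ⟶ Q)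
    [IsMonHom u] [IsMonHom v] (huv : u ≫ v = 1)
    (hker : ∀ {T : Over S} (c : T ⟶ G), c ≫ v = 1 → ∃ h, h ≫ u = c)
    (hinj : ∀ {T : Over S} (h h' : T ⟶ H), h ≫ u = h' ≫ u → h = h') :
    IsPullback (fst G H) ((G ◁ u) ≫ μ[G]) v v := by
  have hb : ∀ {T : Over S} (a : T ⟶ G) (h : T ⟶ H), lift a h ≫ (G ◁ u) ≫ μ[G] = a * (h ≫ u) := by
    intro T a h
    rw [lift_whiskerLeft_assoc]
    rfl
  have hw : fst G H ≫ v = ((G ◁ u) ≫ μ[G]) ≫ v := by
    have h1 : (G ◁ u) ≫ μ[G] = fst G H * (snd G H ≫ u) := by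
      rw [← hb, ← Category.assoc]
      simp
    rw [h1, MonObj.mul_comp, Category.assoc, huv, MonObj.comp_one, _root_.mul_one]
  have hk : ∀ {T : Over S} (a b : T ⟶ G), a ≫ v = b ≫ v → (a⁻¹ * b) ≫ v = 1 := fun a b h => by
    rw [MonObj.mul_comp, GrpObj.inv_comp, h, inv_mul_cancel]
  refine IsPullback.of_isLimit' ⟨hw⟩ (PullbackCone.IsLimit.mk _
    (fun s => lift s.fst (hker (s.fst⁻¹ * s.snd) (hk _ _ s.condition)).choose)
    (fun s => lift_fst _ _) (fun s => ?_) (fun s m h1 h2 => ?_))
  · rw [hb, Exists.choose_spec (hker (s.fst⁻¹ * s.snd) (hk _ _ s.condition)), mul_inv_cancel_left]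
  · have hm : m = lift (m ≫ fst G H) (m ≫ snd G H) := by rw [← comp_lift, lift_fst_snd, Category.comp_id]
    rw [hm, h1]
    refine congrArg (lift s.fst) (hinj _ _ ?_)
    rw [Exists.choose_spec (hker (s.fst⁻¹ * s.snd) (hk _ _ s.condition))]
    rw [hm, hb, h1] at h2
    rw [← h2, inv_mul_cancel_left]

/-- The properties of a finite free covering that we use. -/
def IsFreeCover {R A : Type u} [CommRing R] [CommRing A] (φ : R →+* A) : Prop :=
  φ.Flat ∧ φ.Finite ∧ Function.Surjective (PrimeSpectrum.comap φ)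

/-- A ring map is a finite free covering if it makes the target a monogenic monic extension. -/
theorem isFreeCover_of_bijective {R A : Type u} [CommRing R] [CommRing A] (φ : R →+* A) (x : A)
    (g : Polynomial R) (hg : g.Monic) (hdeg : 0 < g.natDegree) (hx : g.eval₂ φ x = 0)
    (hbij : Function.Bijective (AdjoinRoot.lift φ x hx)) : IsFreeCover φ := by
  let e := RingEquiv.ofBijective _ hbij
  have hφ : φ = e.toRingHom.comp (AdjoinRoot.of g) := by
    ext r; exact (AdjoinRoot.lift_of hx).symm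
  letI := φ.toAlgebra
  let e' : AdjoinRoot g ≃ₐ[R] A := AlgEquiv.ofRingEquiv (f := e) (fun r => AdjoinRoot.lift_of hx)
  haveI := hg.free_adjoinRoot
  haveI := hg.finite_adjoinRoot
  haveI : Module.Flat R A := Module.Flat.of_linearEquiv e'.symm.toLinearEquiv
  haveI : Module.Finite R A := Module.Finite.equiv e'.toLinearEquiv
  refine ⟨RingHom.flat_algebraMap_iff.mpr ‹_›, RingHom.finite_algebraMap.mpr ‹_›, ?_⟩
  refine RingHom.IsIntegral.comap_surjective ?_ ?_
  · exact (RingHom.finite_algebraMap.mpr ‹_›).to_isIntegral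
  · rw [hφ]
    show Function.Injective (⇑e ∘ ⇑(AdjoinRoot.of g))
    refine e.injective.comp (fun a b h => ?_)
    have h0 : AdjoinRoot.of g (a - b) = 0 := by rw [map_sub, h, sub_self]
    rw [AdjoinRoot.of, RingHom.comp_apply, AdjoinRoot.mk_eq_zero] at h0
    by_contra hne
    refine hg.not_dvd_of_natDegree_lt (Polynomial.C_ne_zero.mpr (sub_ne_zero.mpr hne)) ?_ h0
    rw [Polynomial.natDegree_C]; exact hdeg

/-- Local triviality along the base change of a finite free covering. -/
theorem isLocallyTrivialFor_of_isFreeCover {R A B : Type u} [CommRing R] [CommRing A] [CommRing B]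
    (b : S ⟶ Spec (CommRingCat.of R)) [Algebra R A] [Algebra R B]
    (g : (Spec (CommRingCat.of B)).asOver (Spec (CommRingCat.of R)) ⟶ (Spec (CommRingCat.of A)).asOver (Spec (CommRingCat.of R)))
    (φ : A →+* B) (hg : g.left = Spec.map (CommRingCat.ofHom φ)) (hφ : IsFreeCover φ) :
    NonAbH1.IsLocallyTrivialFor Scheme.fpqcPrecoverage
      (Over.mk ((Over.pullback b).map g).left) := by
  obtain ⟨hfl, hfin, hsur⟩ := hφ
  have h1 : Flat g.left := by rw [hg]; exact Flat.SpecMap_iff.mpr hfl
  have h2 : Surjective g.left := by rw [hg]; exact ⟨hsur⟩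
  have h4 : IsFinite g.left := by rw [hg]; exact (IsFinite.SpecMap_iff _).mpr hfin
  have h3 : QuasiCompact g.left := inferInstance
  have : Flat ((Over.pullback b).map g).left := MorphismProperty.overPullbackMap _ g h1
  have : Surjective ((Over.pullback b).map g).left := MorphismProperty.overPullbackMap _ g h2
  have : QuasiCompact ((Over.pullback b).map g).left := MorphismProperty.overPullbackMap _ g h3
  refine ⟨_, Scheme.Hom.singleton_mem_fpqcPrecoverage ((Over.pullback b).map g).left, ?_⟩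
  rintro S' f ⟨⟩
  exact ⟨𝟙 _, Category.id_comp _⟩

end Groth.Agent.EtRamLib.Kummer
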