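import Groth.Prelude.Def_SGA1t
import Groth.Agent.FEtCat.Basic
import Mathlib.RingTheory.Etale.Pi
import Mathlib.RingTheory.Etale.StandardEtale
import Mathlib.RingTheory.TensorProduct.IncludeLeftSubRight
import Mathlib.LinearAlgebra.LinearIndependent.Basic

/-! Galois algebras: principal covers of affine schemes. -/

set_option autoImplicit false

universe u v

open CategoryTheory CategoryTheory.Limits AlgebraicGeometry
open scoped TensorProduct

namespace Groth.Agent.EtRamLib.Kummer

/-- A finite group of algebra endomorphisms acting simply transitively on the geometric fibres. -/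
structure IsTorsor (A B : Type u) [CommRing A] [CommRing B] [Algebra A B] {G : Type v} [Group G]
    (σ : G → (B →ₐ[A] B)) : Prop where
  σ_mul : ∀ g h, σ (g * h) = (σ h).comp (σ g)
  exists_pt : ∀ (Ω : Type u) [Field Ω] [IsAlgClosed Ω] (x : A →+* Ω),
    ∃ s : B →+* Ω, s.comp (algebraMap A B) = x
  free : ∀ (Ω : Type u) [Field Ω] [IsAlgClosed Ω] (s t : B →+* Ω),
    s.comp (algebraMap A B) = t.comp (algebraMap A B) → ∃! g : G, s.comp (σ g).toRingHom = t

/-- A finite etale algebra as a cover. -/
noncomputable abbrev cover (A B : Type u) [CommRing A] [CommRing B] [Algebra A B] [Module.Finite A B]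
    [Algebra.Etale A B] : FEt.Cat (Spec (CommRingCat.of A)) :=
  MorphismProperty.Over.mk ⊤ (Spec.map (CommRingCat.ofHom (algebraMap A B)))
    ⟨(IsFinite.SpecMap_iff _).mpr (RingHom.finite_algebraMap.mpr ‹_›),
      (HasRingHomProperty.Spec_iff (P := @Etale)).mpr (RingHom.etale_algebraMap.mpr ‹_›)⟩

/-- Geometric points detect isomorphisms of finite etale algebras. -/
theorem bijective_of_points {A B C : Type u} [CommRing A] [CommRing B] [CommRing C] [Algebra A B] [Algebra A C]
    [Module.Finite A B] [Algebra.Etale A B] [Module.Finite A C] [Algebra.Etale A C] (f : B →ₐ[A] C)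
    (h : ∀ (Ω : Type u) [Field Ω] [IsAlgClosed Ω] (s : B →+* Ω), ∃! t : C →+* Ω, t.comp f.toRingHom = s) :
    Function.Bijective f := by
  let φ : cover A C ⟶ cover A B := MorphismProperty.Over.homMk (Spec.map (CommRingCat.ofHom f.toRingHom))
    (by
      show Spec.map (CommRingCat.ofHom f.toRingHom) ≫ Spec.map (CommRingCat.ofHom (algebraMap A B)) =
        Spec.map (CommRingCat.ofHom (algebraMap A C))
      rw [← Spec.map_comp]
      congr 1
      exact CommRingCat.hom_ext (RingHom.ext f.commutes)) trivial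
  have : IsIso φ := FEtCat.Basic.isIso_of_forall_bijective φ fun Ω _ _ ξ => by
    constructor
    · rintro ⟨t, ht⟩ ⟨t', ht'⟩ e
      obtain ⟨a, rfl⟩ := Spec.map_surjective t
      obtain ⟨a', rfl⟩ := Spec.map_surjective t'
      have e' : CommRingCat.ofHom f.toRingHom ≫ a = CommRingCat.ofHom f.toRingHom ≫ a' :=
        Spec.map_injective (by rw [Spec.map_comp, Spec.map_comp]; exact congrArg Subtype.val e)
      have := (h Ω (CommRingCat.ofHom f.toRingHom ≫ a).hom).unique (y₁ := a.hom) (y₂ := a'.hom) rfl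
        (congrArg CommRingCat.Hom.hom e').symm
      exact Subtype.ext (congrArg Spec.map (CommRingCat.hom_ext this))
    · rintro ⟨s, hs⟩
      obtain ⟨b, rfl⟩ := Spec.map_surjective s
      obtain ⟨t, ht, -⟩ := h Ω b.hom
      have e : Spec.map (CommRingCat.ofHom t) ≫ Spec.map (CommRingCat.ofHom f.toRingHom) = Spec.map b := by
        rw [← Spec.map_comp]
        exact congrArg Spec.map (CommRingCat.hom_ext ht)
      refine ⟨⟨Spec.map (CommRingCat.ofHom t), ?_⟩, Subtype.ext e⟩
      exact (congrArg (Spec.map (CommRingCat.ofHom t) ≫ ·) (MorphismProperty.Over.w φ).symm).trans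
        ((Category.assoc _ _ _).symm.trans ((congrArg (· ≫ _) e).trans hs))
  have hiso : IsIso φ.left := FEtCat.Basic.isIso_left φ
  have : IsIso (Spec.map (CommRingCat.ofHom f.toRingHom)) := hiso
  obtain ⟨ψ, hψ⟩ := Spec.map_surjective (inv (Spec.map (CommRingCat.ofHom f.toRingHom)))
  have : IsIso (CommRingCat.ofHom f.toRingHom) :=
    ⟨ψ, Spec.map_injective (by rw [Spec.map_comp, Spec.map_id, hψ, IsIso.inv_hom_id]),
      Spec.map_injective (by rw [Spec.map_comp, Spec.map_id, hψ, IsIso.hom_inv_id])⟩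
  exact ConcreteCategory.bijective_of_isIso (CommRingCat.ofHom f.toRingHom)

/-- A ring map out of a finite product of rings into a field factors through a projection. -/
theorem exists_eval_factor {ι : Type v} [Fintype ι] {B : Type u} [CommRing B] {Ω : Type u} [Field Ω]
    (t : (ι → B) →+* Ω) : ∃ (i : ι) (s : B →+* Ω), t = s.comp (Pi.evalRingHom (fun _ => B) i) := by
  classical
  have hsum : ∑ i : ι, t (Pi.single i 1) = 1 := by
    rw [← map_sum, Finset.univ_sum_single (fun _ : ι => (1 : B)), ← Pi.one_def, map_one]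
  obtain ⟨i, -, hi⟩ := Finset.exists_ne_zero_of_sum_ne_zero (hsum.trans_ne one_ne_zero)
  have hidem : t (Pi.single i 1) = 1 := by
    have h2 : t (Pi.single i 1) * t (Pi.single i 1) = t (Pi.single i 1) * 1 := by
      rw [← map_mul, ← Pi.single_mul, _root_.mul_one, _root_.mul_one]
    exact mul_left_cancel₀ hi h2
  refine ⟨i, { toFun := fun b => t (Pi.single i b)
               map_one' := hidem
               map_mul' := fun a b => by rw [← map_mul, Pi.single_mul]
               map_zero' := by rw [Pi.single_zero, map_zero]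
               map_add' := fun a b => by rw [← map_add, Pi.single_add] }, ?_⟩
  refine RingHom.ext fun x => ?_
  show t x = t (Pi.single i (x i))
  have hx : x * Pi.single i 1 = Pi.single i (x i) := by
    funext j
    rcases eq_or_ne j i with rfl | hj
    · simp
    · simp [hj]
  rw [← hx, map_mul, hidem, _root_.mul_one]

theorem linearIndependent_points {A B : Type u} [CommRing A] [CommRing B] [Algebra A B] {G : Type v} [Group G]
    {σ : G → (B →ₐ[A] B)} (h : IsTorsor A B σ) {Ω : Type u} [Field Ω] [IsAlgClosed Ω] (s : B →+* Ω)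
    [Fintype G] (c : G → Ω) (hc : ∀ b, ∑ g, c g * s (σ g b) = 0) : c = 0 := by
  let φ : G → (B →* Ω) := fun g => (s.comp (σ g).toRingHom).toMonoidHom
  have hinj : Function.Injective φ := fun g g' e => by
    refine (h.free Ω s (s.comp (σ g).toRingHom) ?_).unique rfl ?_
    · exact RingHom.ext fun a => congrArg s ((σ g).commutes a).symm
    · exact RingHom.ext fun b => (DFunLike.congr_fun e b).symm
  have hli := (linearIndependent_monoidHom B Ω).comp φ hinj
  rw [Fintype.linearIndependent_iff] at hli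
  funext g
  refine hli c (funext fun b => ?_) g
  simpa [φ, Finset.sum_apply, Pi.smul_apply, smul_eq_mul] using hc b

variable {A B : Type u} [CommRing A] [CommRing B] [Algebra A B] [Module.Finite A B] [Algebra.Etale A B]
  {G : Type v} [Group G] [Fintype G] {σ : G → (B →ₐ[A] B)}

/-- `B ⊗ B` is a product of copies of `B`. -/
theorem injective_psi (h : IsTorsor A B σ) {G' : Type u} [Fintype G'] (eG : G' ≃ G) :
    Function.Injective (Algebra.TensorProduct.lift (Pi.constAlgHom A G' B)
      (Pi.algHom A (fun _ : G' => B) fun g => σ (eG g)) (fun _ _ => Commute.all _ _)) := by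
  haveI : Algebra.Etale A (B ⊗[A] B) := Algebra.Etale.comp A B (B ⊗[A] B)
  haveI : Module.Finite A (B ⊗[A] B) := inferInstance
  refine (bijective_of_points _ fun Ω _ _ s => ?_).1
  let s₁ := s.comp Algebra.TensorProduct.includeLeftRingHom
  let s₂ := s.comp (Algebra.TensorProduct.includeRight (R := A) (A := B) (B := B)).toRingHom
  have he : s₁.comp (algebraMap A B) = s₂.comp (algebraMap A B) := RingHom.ext fun a => congrArg s (by
    rw [Algebra.TensorProduct.includeLeftRingHom_apply]
    simp [Algebra.TensorProduct.algebraMap_apply, Algebra.algebraMap_eq_smul_one, TensorProduct.smul_tmul])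
  obtain ⟨g, hg, huniq⟩ := h.free Ω s₁ s₂ he
  refine ⟨s₁.comp (Pi.evalRingHom (fun _ : G' => B) (eG.symm g)), ?_, fun t ht => ?_⟩
  · refine RingHom.ext fun z => ?_
    induction z using TensorProduct.induction_on with
    | zero => simp
    | add x y hx hy => rw [map_add, map_add, hx, hy]
    | tmul x y =>
      have h2 : s (x ⊗ₜ y) = s₁ x * s₂ y := by
        show _ = s (x ⊗ₜ 1) * s (1 ⊗ₜ y)
        rw [← map_mul, Algebra.TensorProduct.tmul_mul_tmul, _root_.mul_one, _root_.one_mul]
      rw [h2, ← congrArg (fun q : B →+* Ω => q y) hg]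
      simp [s₁, ← map_mul]
  · obtain ⟨i, q, rfl⟩ := exists_eval_factor t
    have hq : q = s₁ := RingHom.ext fun b => by
      have := congrArg (fun w : B ⊗[A] B →+* Ω => w (b ⊗ₜ 1)) ht
      simpa [s₁] using this
    have hi : eG i = g := huniq _ (RingHom.ext fun b => by
      rw [← hq]
      have := congrArg (fun w : B ⊗[A] B →+* Ω => w (1 ⊗ₜ b)) ht
      simpa [s₂] using this)
    rw [hq, ← hi, Equiv.symm_apply_apply]

theorem comap_surjective (h : IsTorsor A B σ) : Function.Surjective (PrimeSpectrum.comap (algebraMap A B)) := by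
  intro P
  let K := FractionRing (A ⧸ P.asIdeal)
  let Ω := AlgebraicClosure K
  let x : A →+* Ω := ((algebraMap K Ω).comp (algebraMap (A ⧸ P.asIdeal) K)).comp (Ideal.Quotient.mk _)
  obtain ⟨s, hs⟩ := h.exists_pt Ω x
  refine ⟨⟨RingHom.ker s, RingHom.ker_isPrime s⟩, PrimeSpectrum.ext ?_⟩
  show (RingHom.ker s).comap (algebraMap A B) = P.asIdeal
  rw [RingHom.comap_ker, hs, RingHom.ker_comp_of_injective _
    (by rw [RingHom.coe_comp]; exact (algebraMap K Ω).injective.comp (IsFractionRing.injective (A ⧸ P.asIdeal) K)), Ideal.mk_ker]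

theorem faithfullyFlat (h : IsTorsor A B σ) : Module.FaithfullyFlat A B :=
  Module.FaithfullyFlat.of_comap_surjective (comap_surjective h)

/-- The invariants of a torsor are the base. -/
theorem mem_range_of_invariant (h : IsTorsor A B σ) {b : B} (hb : ∀ g, σ g b = b) :
    b ∈ Set.range (algebraMap A B) := by
  haveI := faithfullyFlat h
  obtain ⟨G', ⟨eG⟩⟩ : ∃ G' : Type u, Nonempty (G' ≃ G) :=
    ⟨ULift.{u} (Fin (Fintype.card G)), ⟨Equiv.ulift.trans (Fintype.equivFin G).symm⟩⟩
  haveI : Fintype G' := Fintype.ofEquiv G eG.symm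
  refine ((Algebra.IsEffective.of_faithfullyFlat A B) b).mp ?_
  rw [Algebra.TensorProduct.includeLeftSubRight_apply, sub_eq_zero]
  refine injective_psi h eG ?_
  funext g
  simp [hb]

/-- A principal cover of an affine scheme comes from a torsor algebra. -/
theorem exists_algebra {A : Type u} [CommRing A] {G : Type v} [Group G]
    (P : FEt.Cat (Spec (CommRingCat.of A))) (ρ : G →* Aut P) (hP : SGA1t.IsPrincipal G P ρ) :
    ∃ (B : Type u) (_ : CommRing B) (_ : Algebra A B) (_ : Module.Finite A B) (_ : Algebra.Etale A B)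
      (σ : G → (B →ₐ[A] B)) (e : P.left ≅ Spec (CommRingCat.of B)),
      IsTorsor A B σ ∧ e.hom ≫ Spec.map (CommRingCat.ofHom (algebraMap A B)) = P.hom ∧
      ∀ g, (ρ g).hom.left ≫ e.hom = e.hom ≫ Spec.map (CommRingCat.ofHom (σ g).toRingHom) := by
  haveI hf : IsFinite P.hom := P.prop.1
  haveI : IsAffine P.left := @isAffine_of_isAffineHom _ _ P.hom inferInstance (isAffine_Spec _)
  let e := P.left.isoSpec
  obtain ⟨φ, hφ⟩ := Spec.map_surjective (e.inv ≫ P.hom)
  letI : Algebra A Γ(P.left, ⊤) := φ.hom.toAlgebra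
  have hfin : IsFinite (Spec.map φ) := by rw [hφ]; infer_instance
  have het : Etale (Spec.map φ) := by rw [hφ]; infer_instance
  have hmf : Module.Finite A Γ(P.left, ⊤) := (IsFinite.SpecMap_iff _).mp hfin
  have hme : Algebra.Etale A Γ(P.left, ⊤) :=
    RingHom.etale_algebraMap.1 ((HasRingHomProperty.Spec_iff (P := @Etale)).1 het)
  have hover : e.hom ≫ Spec.map φ = P.hom := by rw [hφ, Iso.hom_inv_id_assoc]
  choose ψ hψ using fun g : G => Spec.map_surjective (e.inv ≫ (ρ g).hom.left ≫ e.hom)
  have hψφ : ∀ g, φ ≫ ψ g = φ := fun g => Spec.map_injective (by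
    rw [Spec.map_comp, hψ, Category.assoc, Category.assoc, hover, MorphismProperty.Over.w, hφ])
  let σ : G → (Γ(P.left, ⊤) →ₐ[A] Γ(P.left, ⊤)) := fun g =>
    { (ψ g).hom with commutes' := fun a => congr($(hψφ g) a) }
  have hσ : ∀ g, Spec.map (CommRingCat.ofHom (σ g).toRingHom) = e.inv ≫ (ρ g).hom.left ≫ e.hom := fun g => hψ g
  refine ⟨Γ(P.left, ⊤), inferInstance, inferInstance, hmf, hme, σ, e, ⟨fun g h => ?_, fun Ω _ _ x => ?_, fun Ω _ _ s t hst => ?_⟩,
    hover, fun g => by rw [hσ]; simp⟩
  · apply AlgHom.coe_ringHom_injective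
    have h2 : CommRingCat.ofHom (σ (g * h)).toRingHom =
        CommRingCat.ofHom (σ g).toRingHom ≫ CommRingCat.ofHom (σ h).toRingHom := Spec.map_injective (by
      rw [Spec.map_comp, hσ, hσ, hσ, map_mul]
      simp [Aut.Aut_mul_def])
    exact congrArg CommRingCat.Hom.hom h2
  · have hx : IsAlgClosed Ω := inferInstance
    obtain ⟨y, hy⟩ := hP.1 (Spec.map (CommRingCat.ofHom x) default)
    obtain ⟨⟨s, hs⟩, -⟩ := FEtCat.Count.exists_sec_apply_eq P.hom (Spec.map (CommRingCat.ofHom x)) y hy
    obtain ⟨q, hq⟩ := Spec.map_surjective (s ≫ e.hom)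
    refine ⟨q.hom, congrArg CommRingCat.Hom.hom (Spec.map_injective (a₁ := φ ≫ q) (a₂ := CommRingCat.ofHom x) ?_)⟩
    rw [Spec.map_comp, hq, Category.assoc, hover, hs]
  · have hs : ∀ q : Γ(P.left, ⊤) →+* Ω,
        (Spec.map (CommRingCat.ofHom q) ≫ e.inv) ≫ P.hom = Spec.map (φ ≫ CommRingCat.ofHom q) := by
      intro q
      rw [Category.assoc, ← hφ, Spec.map_comp]
    have hst' : φ ≫ CommRingCat.ofHom s = φ ≫ CommRingCat.ofHom t := CommRingCat.hom_ext hst
    obtain ⟨g, hg, huniq⟩ := hP.2 Ω (Spec.map (φ ≫ CommRingCat.ofHom s))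
      ⟨Spec.map (CommRingCat.ofHom s) ≫ e.inv, hs s⟩
      ⟨Spec.map (CommRingCat.ofHom t) ≫ e.inv, (hs t).trans (by rw [hst'])⟩
    have key : ∀ g', s.comp (σ g').toRingHom = t ↔
        (Spec.map (CommRingCat.ofHom s) ≫ e.inv) ≫ (ρ g').hom.left = Spec.map (CommRingCat.ofHom t) ≫ e.inv := by
      intro g'
      rw [← cancel_mono e.hom, Category.assoc, Category.assoc, Category.assoc, Iso.inv_hom_id, Category.comp_id,
        ← hσ, ← Spec.map_comp, Spec.map_inj]
      exact ⟨fun he => CommRingCat.hom_ext he, fun he => congrArg CommRingCat.Hom.hom he⟩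
    exact ⟨g, (key g).mpr (congrArg Subtype.val hg), fun g' hg' => huniq g' (Subtype.ext ((key g').mp hg'))⟩

end Groth.Agent.EtRamLib.Kummer
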