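import Groth.Agent.EtRamLib.Kummer.Clopen
import Groth.Prelude.Def_EtCore

/-! `i_* M_U = M_X` for the complement `U` of a relative normal crossings divisor. -/

set_option autoImplicit false

universe u

open CategoryTheory CategoryTheory.Limits AlgebraicGeometry

namespace Groth.Agent.EtRamLib.Kummer.Cover

open SGA1t

theorem isIso_unit_const {X U : Scheme.{u}} (j : U ⟶ X) [IsOpenImmersion j]
    (hI : EtDepthLib.ClopenI j) (hS : EtDepthLib.ClopenS j) (M : Type) [AddCommGroup M] [Finite M] :
    IsIso (EtDual.unitApp j (EtCoh.const X M)) := by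
  have : Finite (AddCommGrpCat.of (ULift.{u + 1} M) : AddCommGrpCat.{u + 1}) :=
    inferInstanceAs (Finite (ULift.{u + 1} M))
  have hm : Mono (EtDual.unitApp j (EtCoh.const X M)) := EtDepthLib.mono_unit_const j _ hI
  exact EtDepthLib.isIso_unit_of_extends j (EtCoh.const X M) (EtDepthLib.extends_of_clopen j _ hI hS)

/-- `j_* M_U ≅ M_X` -/
noncomputable def pushConstIso {X U : Scheme.{u}} (j : U ⟶ X) [IsOpenImmersion j]
    (hI : EtDepthLib.ClopenI j) (hS : EtDepthLib.ClopenS j) (M : Type) [AddCommGroup M] [Finite M] :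
    (EtCoh.push j).obj (EtCoh.const U M) ≅ EtCoh.const X M :=
  haveI := isIso_unit_const j hI hS M
  ((EtCoh.push j).mapIso (EtCore.pullConst j M)).symm ≪≫ (asIso (EtDual.unitApp j (EtCoh.const X M))).symm

end Groth.Agent.EtRamLib.Kummer.Cover
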